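import Mathlib

/-!
# The dihedral group of one block (for S3191)

A block has two pairs of letters; the block group is the centraliser of `flipB` (flip both pairs).
It has two four-groups: `b = true` generated by `flipB` and the flip of one pair, `b = false` by
`flipB` and the exchange of the pairs.
-/

set_option autoImplicit false
set_option maxRecDepth 100000

namespace Cfsg.Agent.Invol.Kondo

open Equiv

/-- A block: (pair, side). -/
abbrev B := Fin 2 × Fin 2

/-- Flip both pairs. -/
def flipB : Perm B where
  toFun x := (x.1, x.2 + 1)
  invFun x := (x.1, x.2 + 1)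
  left_inv x := by revert x; decide
  right_inv x := by revert x; decide

/-- The second generator of a four-group. -/
def genB : Bool → Perm B
  | true => Equiv.swap (0, 0) (0, 1)
  | false =>
    { toFun := fun x => (x.1 + 1, x.2)
      invFun := fun x => (x.1 + 1, x.2)
      left_inv := fun x => by revert x; decide
      right_inv := fun x => by revert x; decide }

/-- The elements of the four-group. -/
def elt (b : Bool) (p q : ZMod 2) : Perm B := (if p = 1 then flipB else 1) * (if q = 1 then genB b else 1)

/-- Membership in the block group. -/
def InD (g : Perm B) : Prop := g * flipB = flipB * g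

instance : DecidablePred InD := fun g => inferInstanceAs (Decidable (g * flipB = flipB * g))

theorem elt_inD : ∀ b p q, InD (elt b p q) := by decide +kernel

theorem elt_mul : ∀ b p q p' q', elt b p q * elt b p' q' = elt b (p + p') (q + q') := by decide +kernel

theorem elt_inj : ∀ b p q p' q', elt b p q = elt b p' q' → p = p' ∧ q = q' := by decide +kernel

theorem elt_zero : ∀ b, elt b 0 0 = 1 := by decide +kernel

theorem elt_z : ∀ b p, elt b p 0 = if p = 1 then flipB else 1 := by decide +kernel

theorem sign_elt : ∀ b p q, Perm.sign (elt b p q) = if b = true ∧ q = 1 then -1 else 1 := by decide +kernel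

theorem elt_inj2 : ∀ b p q b' p' q', elt b p q = elt b' p' q' → p = p' ∧ q = q' ∧ (q = 1 → b = b') := by decide +kernel

/-- An element squaring to one lies in a four-group. -/
theorem invol_cases : ∀ g, InD g → g * g = 1 → ∃ b p q, g = elt b p q := by decide +kernel

/-- Two commuting non-central elements squaring to one are in the same four-group. -/
theorem comm_cases : ∀ b p b' p', elt b p 1 * elt b' p' 1 = elt b' p' 1 * elt b p 1 → b = b' := by
  decide +kernel

theorem comm_central : ∀ g, InD g → ∀ h, InD h → g * h * g⁻¹ * h⁻¹ = 1 ∨ g * h * g⁻¹ * h⁻¹ = flipB := by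
  decide +kernel

theorem conj_elt : ∀ g, InD g → ∀ b, ∀ p q, ∃ p', g * elt b p q * g⁻¹ = elt b p' q ∧ (q = 0 → p' = p) := by
  decide +kernel

theorem conj_gen : ∀ b p q, genB (!b) * elt b p q * (genB (!b))⁻¹ = elt b (p + q) q := by decide +kernel

theorem gen_inD : ∀ b, InD (genB b) := by decide +kernel

theorem noncentral : ∀ g, InD g → (∀ b, g * genB b * g⁻¹ * (genB b)⁻¹ = 1) → g = 1 ∨ g = flipB := by
  decide +kernel

theorem flipB_ne_one : flipB ≠ 1 := by decide

/-- The block group is transitive on the block. -/
theorem transitive : ∀ x y : B, ∃ g, InD g ∧ g x = y := by decide +kernel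

theorem card_inD : (Finset.univ.filter InD).card = 8 := by decide +kernel

end Cfsg.Agent.Invol.Kondo
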