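import Cfsg.Agent.Lib.Invol.KondoClasses.Fusion

/-!
# The frame of a group with the centraliser of an alternating group (for S3191)
-/

set_option autoImplicit false
set_option maxHeartbeats 1000000

namespace Cfsg.Agent.Invol.Kondo

open Equiv Subgroup

universe u

variable {n : ℕ}

theorem fact_two_mul : ∀ n : ℕ, ∃ m, Odd m ∧ (2 * n).factorial = 2 ^ n * n.factorial * m := by
  intro n
  induction n with
  | zero => exact ⟨1, odd_one, rfl⟩
  | succ k ih =>
    obtain ⟨m, hm, he⟩ := ih
    refine ⟨(2 * k + 1) * m, Odd.mul ⟨k, rfl⟩ hm, ?_⟩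
    rw [show 2 * (k + 1) = 2 * k + 1 + 1 by ring, Nat.factorial_succ, Nat.factorial_succ, he, Nat.factorial_succ,
      pow_succ]
    ring

theorem beta_sq : beta n * beta n = 1 := Equiv.ext beta_beta

theorem beta_ne (x : X n) : beta n x ≠ x := by
  intro h
  have h1 : x.2.2 + 1 = x.2.2 := congrArg (fun y : X n => y.2.2) h
  exact absurd h1 ((by decide : ∀ b : Fin 2, b + 1 ≠ b) _)

theorem card_PG : Nat.card ↥(PG n) = 2 ^ (2 * n) * (2 * n).factorial := by
  have hs : (beta n).support.card = 4 * n := by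
    rw [Finset.eq_univ_of_forall fun x => Perm.mem_support.2 (beta_ne x), Finset.card_univ]
    simp; ring
  have hc : (beta n).cycleType = Multiset.replicate (2 * n) 2 := by
    rw [cycleType_invol beta_sq, hs, show 4 * n / 2 = 2 * n by omega]
  rw [PG, Perm.nat_card_centralizer, hc]
  simp only [Multiset.sum_replicate, Multiset.prod_replicate, smul_eq_mul]
  rw [show Fintype.card (X n) - 2 * n * 2 = 0 by simp; omega]
  rcases Nat.eq_zero_or_pos n with rfl | hn
  · simp
  · rw [Multiset.toFinset_replicate, if_neg (by omega), Finset.prod_singleton, Multiset.count_replicate_self]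
    simp

theorem card_QG : Nat.card ↥(QG n) = n.factorial * 8 ^ n := by
  classical
  let f : Perm (Fin n) × (Fin n → {g : Perm B // InD g}) → ↥(QG n) := fun p =>
    ⟨bp n p.1 * bm n fun i => (p.2 i : Perm B), p.1, _, fun i => (p.2 i).2, rfl⟩
  have hf : Function.Bijective f := by
    refine ⟨fun p p' e => ?_, ?_⟩
    · have e' : bp n p.1 * bm n (fun i => (p.2 i : Perm B)) = bp n p'.1 * bm n (fun i => (p'.2 i : Perm B)) :=
        congrArg Subtype.val e
      have e1 : p.1 = p'.1 := Equiv.ext fun i =>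
        (congrArg (fun q : Perm (X n) => (q (i, (0, 0))).1) e' :)
      rw [e1] at e'
      exact Prod.ext e1 (funext fun i => Subtype.ext (congrFun (mk_inj (mul_left_cancel e')) i))
    · rintro ⟨_, π, g, hg, rfl⟩
      exact ⟨(π, fun i => ⟨g i, hg i⟩), rfl⟩
  rw [← Nat.card_congr (Equiv.ofBijective f hf), Nat.card_prod, Nat.card_fun, Nat.card_perm, Nat.card_fin,
    Nat.card_eq_fintype_card, Fintype.card_subtype, card_inD]

/-- The central involutions of the model. -/
theorem PG_center {p : Perm (X n)} (hp : p ∈ PG n) (hc : ∀ q ∈ PG n, p * q = q * p) :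
    p = 1 ∨ p = beta n := by
  classical
  have hblock : ∀ x, (p x).1 = x.1 := by
    intro x
    by_contra hne
    have e := congrArg (fun q : Perm (X n) => q x)
      (hc _ (JG_le_QG.trans QG_le_PG (Frame.zel_mem (Pi.single x.1 1))))
    simp only [Perm.mul_apply, zel, mk_apply, Pi.single_eq_same, if_true, Pi.single_eq_of_ne hne,
      zero_ne_one, if_false] at e
    have e' : p (beta n x) = p x := by
      rw [show beta n x = (x.1, flipB x.2) from rfl, e]
      exact Prod.ext rfl rfl
    exact beta_ne x (p.injective e')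
  obtain ⟨g, hg, rfl⟩ := mem_PG_fst hp hblock
  have hz : ∀ i, g i = 1 ∨ g i = flipB := fun i => noncentral _ (hg i) fun b => by
    have e := hc (bm n (Pi.mulSingle i (genB b))) (mk_mem_PG.2 fun k => by
      rcases eq_or_ne k i with rfl | h
      · simpa using gen_inD b
      · simp [InD, Pi.mulSingle_eq_of_ne h])
    rw [← map_mul, ← map_mul] at e
    have e' : g i * genB b = genB b * g i := by simpa using congrFun (mk_inj e) i
    rw [e']; group
  rcases Nat.eq_zero_or_pos n with h0 | h0
  · left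
    refine Equiv.ext fun x => ?_
    exact absurd x.1.2 (by omega)
  have hsame : ∀ i j, g i = g j := fun i j => by
    have e := hc (bp n (Equiv.swap i j)) (bp_mem_PG _)
    have e1 := bp_mk (Equiv.swap i j) g
    rw [← e, mul_inv_cancel_right] at e1
    simpa using congrFun (mk_inj e1) i
  rcases hz ⟨0, h0⟩ with e | e
  · left
    rw [show g = 1 from funext fun i => (hsame i ⟨0, h0⟩).trans e, map_one]
  · right
    exact congrArg _ (funext fun i => (hsame i ⟨0, h0⟩).trans e)

theorem small_center : ∀ q : Perm (Fin 2), Perm.sign q = 1 → q = 1 := by decide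

theorem small_center' : ∀ q : Perm (Fin 3), Perm.sign q = 1 → q * Equiv.swap 0 1 = Equiv.swap 0 1 * q → q = 1 := by
  decide

/-- The frame. -/
theorem exists_frame (r : ℕ) (hn : 1 ≤ n) (hr : r = 2 ∨ r = 3)
    (α : ↥(alternatingGroup (Fin (4 * n + r)))) (hα : orderOf α = 2)
    (hα4 : (α : Perm (Fin (4 * n + r))).support.card = 4 * n)
    {G : Type u} [Group G] [Finite G] (h2 : ∀ H : Subgroup G, H.Normal → H.index ≠ 2)
    (t : G) (ht : orderOf t = 2) (S : Sylow 2 G) (htZ : ∀ s ∈ (S : Subgroup G), s * t = t * s)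
    (ψ : ↥(Subgroup.centralizer ({t} : Set G)) ≃*
      ↥(Subgroup.centralizer ({α} : Set ↥(alternatingGroup (Fin (4 * n + r)))))) :
    Nonempty (Frame G n) := by
  classical
  haveI : Fact (Nat.Prime 2) := ⟨Nat.prime_two⟩
  set C := Subgroup.centralizer ({t} : Set G)
  -- the letters
  let α₀ : Perm (X n ⊕ Fin r) := Equiv.sumCongr (beta n) 1
  obtain ⟨e₀⟩ : Nonempty (Fin (4 * n + r) ≃ X n ⊕ Fin r) := ⟨Fintype.equivOfCardEq (by simp; ring)⟩
  have hαsq : (α : Perm (Fin (4 * n + r))) * α = 1 := by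
    have h := pow_orderOf_eq_one α
    rw [hα, pow_two] at h
    exact congrArg Subtype.val h
  have hα₀sq : α₀ * α₀ = 1 := Equiv.ext fun x => by
    rcases x with x | x
    · exact congrArg Sum.inl (beta_beta x)
    · rfl
  have hsupp₀ : α₀.support = Finset.univ.map ⟨Sum.inl, Sum.inl_injective⟩ := by
    ext (x | x)
    · simp [α₀, beta_ne]
    · simp [α₀]
  obtain ⟨θ, hθ⟩ := isConj_iff.1 (Perm.isConj_iff_cycleType_eq.2
    (show (e₀.permCongr (α : Perm (Fin (4 * n + r)))).cycleType = α₀.cycleType by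
      have h1 : e₀.permCongr (α : Perm (Fin (4 * n + r))) * e₀.permCongr (α : Perm (Fin (4 * n + r))) = 1 := by
        rw [← Equiv.permCongr_mul, hαsq]; exact Equiv.ext fun x => by simp
      rw [cycleType_invol h1, cycleType_invol hα₀sq]
      congr 2
      rw [hsupp₀, Finset.card_map, Finset.card_univ]
      have : (e₀.permCongr (α : Perm (Fin (4 * n + r)))).support = (α : Perm (Fin (4 * n + r))).support.map e₀.toEmbedding := by
        ext x
        simp [Equiv.permCongr_apply, e₀.eq_symm_apply, Finset.mem_map_equiv, Perm.mem_support]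
      rw [this, Finset.card_map, hα4]
      simp; ring))
  let e := e₀.trans θ
  have heα : e.permCongr (α : Perm (Fin (4 * n + r))) = α₀ := by
    rw [← hθ]; ext1 x; simp [e, Equiv.permCongr_apply]
  let f : ↥C →* Perm (X n ⊕ Fin r) :=
    (e.permCongrHom.toMonoidHom).comp ((alternatingGroup (Fin (4 * n + r))).subtype.comp
      ((Subgroup.centralizer ({α} : Set ↥(alternatingGroup (Fin (4 * n + r))))).subtype.comp ψ.toMonoidHom))
  have hfinj : Function.Injective f := fun a b h => ψ.injective (Subtype.ext (Subtype.ext (e.permCongrHom.injective h)))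
  have hfmem : ∀ c, Perm.sign (f c) = 1 ∧ f c * α₀ = α₀ * f c := by
    intro c
    refine ⟨?_, ?_⟩
    · show Perm.sign (e.permCongr ((ψ c : ↥(alternatingGroup (Fin (4 * n + r)))) : Perm (Fin (4 * n + r)))) = 1
      rw [Perm.sign_permCongr]
      exact Perm.mem_alternatingGroup.1 (ψ c).1.2
    · show e.permCongr ((ψ c : ↥(alternatingGroup (Fin (4 * n + r)))) : Perm (Fin (4 * n + r))) * α₀ = α₀ * e.permCongr _
      rw [← heα, ← Equiv.permCongr_mul, ← Equiv.permCongr_mul]
      exact congrArg _ (congrArg Subtype.val (Subgroup.mem_centralizer_singleton_iff.1 (ψ c).2))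
  have hfsurj : ∀ q : Perm (X n ⊕ Fin r), Perm.sign q = 1 → q * α₀ = α₀ * q → ∃ c, f c = q := by
    intro q hs hq
    have hs' : e.symm.permCongr q ∈ alternatingGroup (Fin (4 * n + r)) := by
      rw [Perm.mem_alternatingGroup, Perm.sign_permCongr]; exact hs
    have hc : (⟨_, hs'⟩ : ↥(alternatingGroup (Fin (4 * n + r)))) ∈
        Subgroup.centralizer ({α} : Set ↥(alternatingGroup (Fin (4 * n + r)))) := by
      refine Subgroup.mem_centralizer_singleton_iff.2 (Subtype.ext ?_)
      show e.symm.permCongr q * (α : Perm (Fin (4 * n + r))) = α * e.symm.permCongr q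
      apply e.permCongr.injective
      rw [Equiv.permCongr_mul, Equiv.permCongr_mul, heα, show e.permCongr (e.symm.permCongr q) = q from
        Equiv.ext fun x => by simp [Equiv.permCongr_apply]]
      exact hq
    refine ⟨ψ.symm ⟨_, hc⟩, ?_⟩
    show e.permCongr ((ψ (ψ.symm ⟨_, hc⟩) : ↥(alternatingGroup (Fin (4 * n + r)))) : Perm (Fin (4 * n + r))) = q
    rw [MulEquiv.apply_symm_apply]
    exact Equiv.ext fun x => by simp [Equiv.permCongr_apply]
  -- decomposition of the centraliser
  have hsplit : ∀ c, ∃ (p : Perm (X n)) (q : Perm (Fin r)), p ∈ PG n ∧ f c = Equiv.sumCongr p q := by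
    intro c
    have hcom : ∀ x, f c (α₀ x) = α₀ (f c x) := fun x => congrArg (fun p : Perm (X n ⊕ Fin r) => p x) (hfmem c).2
    have hmaps : Set.MapsTo (f c) (Set.range (Sum.inl : X n → X n ⊕ Fin r)) (Set.range Sum.inl) := by
      rintro _ ⟨x, rfl⟩
      rcases hfx : f c (Sum.inl x) with y | y
      · exact ⟨y, rfl⟩
      · exfalso
        have h := hcom (Sum.inl x)
        rw [hfx] at h
        exact beta_ne x (Sum.inl_injective ((f c).injective (h.trans hfx.symm)))
    obtain ⟨⟨p, q⟩, hpq⟩ := Perm.mem_sumCongrHom_range_of_perm_mapsTo_inl hmaps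
    refine ⟨p, q, mem_PG.2 (Equiv.ext fun x => ?_), hpq.symm⟩
    have h := hcom (Sum.inl x)
    rw [← hpq] at h
    exact Sum.inl_injective h
  let sw : Perm (Fin r) := Equiv.swap ⟨0, by omega⟩ ⟨1, by omega⟩
  let σ : ℤˣ →* Perm (Fin r) := MonoidHom.mk' (fun u => if u = 1 then 1 else sw) (by
    intro a b
    rcases Int.units_eq_one_or a with rfl | rfl <;> rcases Int.units_eq_one_or b with rfl | rfl <;> simp [sw])
  have hσ : ∀ u, Perm.sign (σ u) = u := fun u => by
    rcases Int.units_eq_one_or u with rfl | rfl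
    · exact map_one _
    · show Perm.sign sw = -1
      exact Perm.sign_swap (by simp [Fin.ext_iff])
  let j : ↥(PG n) →* Perm (X n ⊕ Fin r) :=
    (Perm.sumCongrHom (X n) (Fin r)).comp ((PG n).subtype.prod (σ.comp (Perm.sign.comp (PG n).subtype)))
  have hjp : ∀ p : ↥(PG n), j p = Equiv.sumCongr (p : Perm (X n)) (σ (Perm.sign (p : Perm (X n)))) := fun p => rfl
  have hj : ∀ p, j p ∈ f.range := fun p => by
    obtain ⟨c, hc⟩ := hfsurj (j p) (by rw [hjp, Perm.sign_sumCongr, hσ, Int.units_mul_self]) (by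
      rw [hjp]
      ext1 x
      rcases x with x | x
      · exact congrArg Sum.inl (PG_beta p.2 x)
      · rfl)
    exact ⟨c, hc⟩
  let ι₀ : ↥(PG n) →* ↥C := (MonoidHom.ofInjective hfinj).symm.toMonoidHom.comp (j.codRestrict f.range hj)
  have hfι : ∀ p, f (ι₀ p) = j p := fun p =>
    (congrArg Subtype.val ((MonoidHom.ofInjective hfinj).apply_symm_apply ⟨j p, hj p⟩) :)
  let Kc : Subgroup ↥C :=
    { carrier := {c | ∀ x, f c (Sum.inl x) = Sum.inl x}
      one_mem' := fun x => by simp
      mul_mem' := fun {a b} ha hb x => by rw [map_mul, Perm.mul_apply, hb, ha]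
      inv_mem' := fun {a} ha x => by
        rw [map_inv, Perm.inv_eq_iff_eq]; exact (ha x).symm }
  have hKι : ∀ p, ι₀ p ∈ Kc → p = 1 := fun p hp => Subtype.ext (Equiv.ext fun x => by
    have h := hp x
    rw [hfι, hjp] at h
    exact Sum.inl_injective h)
  have hdec : ∀ c : ↥C, ∃ k ∈ Kc, ∃ p, c = k * ι₀ p := by
    intro c
    obtain ⟨p, q, hp, hpq⟩ := hsplit c
    refine ⟨c * (ι₀ ⟨p, hp⟩)⁻¹, fun x => ?_, ⟨p, hp⟩, by group⟩
    rw [map_mul, map_inv, hfι, hjp, hpq, Perm.mul_apply]
    simp
  -- the involution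
  have hβι : ι₀ ⟨beta n, mem_PG.2 rfl⟩ = ⟨t, Subgroup.mem_centralizer_singleton_iff.2 rfl⟩ := by
    set tC : ↥C := ⟨t, Subgroup.mem_centralizer_singleton_iff.2 rfl⟩ with htC
    have hcen : ∀ c : ↥C, tC * c = c * tC := fun c =>
      Subtype.ext (Subgroup.mem_centralizer_singleton_iff.1 c.2).symm
    obtain ⟨p, q, hp, hpq⟩ := hsplit tC
    have hcp : ∀ p' : ↥(PG n), p * p' = p' * p ∧ q * σ (Perm.sign (p' : Perm (X n))) = σ (Perm.sign (p' : Perm (X n))) * q := by
      intro p'
      have h := congrArg f (hcen (ι₀ p'))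
      rw [map_mul, map_mul, hfι, hjp, hpq] at h
      refine ⟨Equiv.ext fun x => ?_, Equiv.ext fun x => ?_⟩
      · exact Sum.inl_injective (congrArg (fun s : Perm (X n ⊕ Fin r) => s (Sum.inl x)) h)
      · exact Sum.inr_injective (congrArg (fun s : Perm (X n ⊕ Fin r) => s (Sum.inr x)) h)
    have hq1 : Perm.sign p = 1 → q = 1 := fun hp1 => by
      have hsign := (hfmem tC).1
      rw [hpq, Perm.sign_sumCongr, hp1, one_mul] at hsign
      rcases hr with rfl | rfl
      · exact small_center q hsign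
      · have h := (hcp ⟨emb (fun _ => true) (sb ⟨0, hn⟩), AG_le_JG _ |>.trans (JG_le_QG.trans QG_le_PG) ⟨_, rfl⟩⟩).2
        have hs : Perm.sign (emb (fun _ : Fin n => true) (sb ⟨0, hn⟩)) = -1 := by
          have := par_emb true (fun _ : Fin n => true) (sb ⟨0, hn⟩)
            ((AG_le_JG _ |>.trans (JG_le_QG.trans QG_le_PG)) ⟨_, rfl⟩)
          exact this.trans (by simp [sb, Pi.single_apply, Finset.prod_ite_eq'])
        rw [hs] at h
        exact small_center' q hsign h
    have hp' := PG_center hp fun q hq => (hcp ⟨q, hq⟩).1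
    apply hfinj
    rw [hfι, hjp, hpq]
    have hβs : Perm.sign (beta n) = 1 := by
      have := par_emb true (fun _ : Fin n => true) (tt : V n)
        ((AG_le_JG _ |>.trans (JG_le_QG.trans QG_le_PG)) ⟨_, rfl⟩)
      rw [show beta n = emb (fun _ : Fin n => true) tt from (emb_tt _).symm]
      exact this.trans (by simp [tt])
    rcases hp' with rfl | rfl
    · exfalso
      have e1 : f tC = 1 := by
        rw [hpq, hq1 (map_one _)]; exact Equiv.sumCongr_refl
      have e2 : t = 1 := congrArg Subtype.val (hfinj (e1.trans (map_one f).symm))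
      rw [e2, orderOf_one] at ht
      omega
    · show Equiv.sumCongr (beta n) (σ (Perm.sign (beta n))) = _
      rw [hq1 hβs, hβs, map_one]
  -- cardinalities
  have hKodd : Odd (Nat.card ↥Kc) := by
    let g : ↥Kc → Perm (Fin r) := fun c => (hsplit c).choose_spec.choose
    have hg : ∀ c : ↥Kc, f c = Equiv.sumCongr 1 (g c) ∧ Perm.sign (g c) = 1 := fun c => by
      obtain ⟨hp, he⟩ := (hsplit c).choose_spec.choose_spec
      have h1 : (hsplit c).choose = 1 := Equiv.ext fun x => Sum.inl_injective (by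
        have := c.2 x; rw [he] at this; exact this)
      have he' : f c = Equiv.sumCongr 1 (g c) := he.trans (congrArg (fun s => Equiv.sumCongr s (g c)) h1)
      refine ⟨he', ?_⟩
      have := (hfmem c).1
      rwa [he', Perm.sign_sumCongr, map_one, one_mul] at this
    have hb : Function.Bijective (fun c : ↥Kc => (⟨g c, (hg c).2⟩ : {q : Perm (Fin r) // Perm.sign q = 1})) := by
      refine ⟨fun a b h => ?_, fun ⟨q, hq⟩ => ?_⟩
      · have h' : g a = g b := congrArg Subtype.val h
        exact Subtype.ext (hfinj (by rw [(hg a).1, (hg b).1, h']))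
      · obtain ⟨c, hc⟩ := hfsurj (Equiv.sumCongr 1 q) (by rw [Perm.sign_sumCongr, hq, map_one, one_mul]) (by
          ext1 x; rcases x with x | x <;> rfl)
        refine ⟨⟨c, fun x => by rw [hc]; rfl⟩, Subtype.ext (Equiv.ext fun x => Sum.inr_injective (α := X n) ?_)⟩
        have := congrArg (fun s : Perm (X n ⊕ Fin r) => s (Sum.inr x)) ((hg ⟨c, fun x => by rw [hc]; rfl⟩).1.symm.trans hc)
        exact this
    rw [Nat.card_congr (Equiv.ofBijective _ hb)]
    rcases hr with rfl | rfl <;> (rw [Nat.card_eq_fintype_card]; decide)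
  let ι : ↥(PG n) →* G := C.subtype.comp ι₀
  have hιinj : Function.Injective ι := fun a b h => by
    have h1 : j a = j b := by rw [← hfι, ← hfι, Subtype.ext h]
    refine Subtype.ext (Equiv.ext fun x => Sum.inl_injective (β := Fin r) ?_)
    exact congrArg (fun s : Perm (X n ⊕ Fin r) => s (Sum.inl x)) h1
  have hcardC : Nat.card ↥C = Nat.card ↥Kc * Nat.card ↥(PG n) := by
    rw [← Nat.card_prod]
    refine (Nat.card_congr (Equiv.ofBijective (fun kp : ↥Kc × ↥(PG n) => (kp.1 : ↥C) * ι₀ kp.2)
      ⟨fun a b h => ?_, fun c => ?_⟩)).symm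
    · simp only at h
      have h1 : ι₀ (a.2 * b.2⁻¹) ∈ Kc := by
        rw [map_mul, map_inv, show ι₀ a.2 = (a.1 : ↥C)⁻¹ * ((b.1 : ↥C) * ι₀ b.2) by rw [← h]; group,
          show (a.1 : ↥C)⁻¹ * ((b.1 : ↥C) * ι₀ b.2) * (ι₀ b.2)⁻¹ = (a.1 : ↥C)⁻¹ * b.1 by group]
        exact mul_mem (inv_mem a.1.2) b.1.2
      have h2 : a.2 = b.2 := mul_inv_eq_one.1 (hKι _ h1)
      refine Prod.ext (Subtype.ext ?_) h2
      simpa [h2] using h
    · obtain ⟨k, hk, p, e⟩ := hdec c
      exact ⟨(⟨k, hk⟩, p), e.symm⟩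
  -- a Sylow subgroup in the model
  set QI : Subgroup G := ((QG n).subgroupOf (PG n)).map ι
  have hQI : Nat.card ↥QI = n.factorial * 8 ^ n := by
    rw [card_map_of_injective hιinj, Nat.card_congr (Subgroup.subgroupOfEquivOfLe QG_le_PG).toEquiv, card_QG]
  obtain ⟨R⟩ : Nonempty (Sylow 2 ↥QI) := inferInstance
  obtain ⟨R', hR'⟩ := (R.isPGroup'.map QI.subtype).exists_le_sylow
  have hR'Q : (R' : Subgroup G) ≤ QI := by
    obtain ⟨m, hm, hfac⟩ := fact_two_mul n
    have hSC : (S : Subgroup G) ≤ C := fun s hs => Subgroup.mem_centralizer_singleton_iff.2 (htZ s hs)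
    have hdvd : Nat.card ↥(S : Subgroup G) ∣ (Nat.card ↥Kc * m) * (n.factorial * 8 ^ n) := by
      have h := Subgroup.card_dvd_of_le hSC
      rw [hcardC, card_PG, hfac] at h
      rwa [show Nat.card ↥Kc * m * (n.factorial * 8 ^ n) = Nat.card ↥Kc * (2 ^ (2 * n) * (2 ^ n * n.factorial * m)) by
        rw [show (8 : ℕ) ^ n = 2 ^ (2 * n) * 2 ^ n by rw [← pow_add, show (8 : ℕ) = 2 ^ 3 by rfl, ← pow_mul]; ring_nf]
        ring]
    obtain ⟨a, ha⟩ := IsPGroup.iff_card.1 S.isPGroup'
    have hcop : Nat.Coprime (Nat.card ↥(S : Subgroup G)) (Nat.card ↥Kc * m) := by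
      rw [ha]
      exact Nat.Coprime.pow_left a (Nat.coprime_two_left.2 (hKodd.mul hm))
    have h1 := hcop.dvd_of_dvd_mul_left hdvd
    rw [← hQI, ha] at h1
    have h3 : Nat.card ↥(S : Subgroup G) ∣ Nat.card ↥((R : Subgroup ↥QI).map QI.subtype) := by
      rw [card_map_of_injective QI.subtype_injective, ha]
      exact R.pow_dvd_card_of_pow_dvd_card h1
    have h4 : (R : Subgroup ↥QI).map QI.subtype = R' := Subgroup.eq_of_le_of_card_ge hR' (by
      refine le_trans (le_of_eq ?_) (Nat.le_of_dvd Nat.card_pos h3)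
      exact (R'.card_eq_multiplicity).trans (S.card_eq_multiplicity).symm)
    rw [← h4]; exact map_subtype_le _
  refine ⟨{
    ι := ι
    inj := hιinj
    K := Kc.map C.subtype
    K_comm := fun k hk h => by
      obtain ⟨c, -, rfl⟩ := hk
      show (c : G) * (ι₀ ⟨beta n, h⟩ : ↥C) = (ι₀ ⟨beta n, h⟩ : ↥C) * c
      rw [hβι]
      exact Subgroup.mem_centralizer_singleton_iff.1 c.2
    dec := fun g hg => by
      have hgC : g ∈ C := Subgroup.mem_centralizer_singleton_iff.2 (by
        have := hg (mem_PG.2 rfl)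
        rwa [show ι ⟨beta n, mem_PG.2 rfl⟩ = t from congrArg Subtype.val hβι] at this)
      obtain ⟨k, hk, p, e⟩ := hdec ⟨g, hgC⟩
      exact ⟨k, ⟨k, hk, rfl⟩, p, congrArg Subtype.val e⟩
    K_norm := fun k hk p => by
      obtain ⟨c, hc, rfl⟩ := hk
      refine ⟨ι₀ p * c * (ι₀ p)⁻¹, fun x => ?_, rfl⟩
      rw [map_mul, map_mul, map_inv, hfι, hjp, Perm.mul_apply, Perm.mul_apply]
      simp [hc _]
    K_inter := fun p hp => by
      obtain ⟨c, hc, e⟩ := hp
      exact hKι p (by rw [show ι₀ p = c from (Subtype.ext e).symm]; exact hc)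
    K_odd := by rw [card_map_of_injective C.subtype_injective]; exact hKodd
    no_two := h2
    sylow := fun P hP => by
      obtain ⟨g, hg⟩ := exists_conj_subset_sylow hP R'
      exact ⟨g, fun x hx => hR'Q (hg x hx)⟩ }⟩

end Cfsg.Agent.Invol.Kondo
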