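import Cfsg.Agent.Lib.Invol.KondoClasses.Rank
import Cfsg.Agent.Lib.Invol.Sylow

/-!
# Control of fusion by the block group (for S3191)
-/

set_option autoImplicit false

namespace Cfsg.Agent.Invol.Kondo

open Equiv Subgroup

universe u

variable {n : ℕ}

/-- The ambient data. -/
structure Frame (G : Type u) [Group G] (n : ℕ) where
  ι : ↥(PG n) →* G
  inj : Function.Injective ι
  K : Subgroup G
  K_comm : ∀ k ∈ K, ∀ h : beta n ∈ PG n, k * ι ⟨beta n, h⟩ = ι ⟨beta n, h⟩ * k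
  dec : ∀ g : G, (∀ h : beta n ∈ PG n, g * ι ⟨beta n, h⟩ = ι ⟨beta n, h⟩ * g) → ∃ k ∈ K, ∃ p, g = k * ι p
  K_norm : ∀ k ∈ K, ∀ p, ι p * k * (ι p)⁻¹ ∈ K
  K_inter : ∀ p, ι p ∈ K → p = 1
  K_odd : Odd (Nat.card ↥K)
  no_two : ∀ H : Subgroup G, H.Normal → H.index ≠ 2
  sylow : ∀ P : Subgroup G, IsPGroup 2 ↥P → ∃ g : G, ∀ x ∈ P, g * x * g⁻¹ ∈ ((QG n).subgroupOf (PG n)).map ι

namespace Frame

variable {G : Type u} [Group G] (F : Frame G n)

theorem beta_mem : beta n ∈ PG n := mem_PG.2 rfl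

/-- The image of an element of the model. -/
noncomputable def e (p : Perm (X n)) : G := by
  classical exact if h : p ∈ PG n then F.ι ⟨p, h⟩ else 1

theorem e_eq {p : Perm (X n)} (h : p ∈ PG n) : F.e p = F.ι ⟨p, h⟩ := dif_pos h

theorem e_mul {p q : Perm (X n)} (hp : p ∈ PG n) (hq : q ∈ PG n) : F.e (p * q) = F.e p * F.e q := by
  rw [F.e_eq hp, F.e_eq hq, F.e_eq (mul_mem hp hq), ← map_mul]; rfl

theorem e_one : F.e 1 = 1 := by rw [F.e_eq (one_mem _)]; exact map_one F.ι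

theorem e_inv {p : Perm (X n)} (hp : p ∈ PG n) : F.e p⁻¹ = (F.e p)⁻¹ := by
  rw [F.e_eq hp, F.e_eq (inv_mem hp), ← map_inv]; rfl

theorem e_inj {p q : Perm (X n)} (hp : p ∈ PG n) (hq : q ∈ PG n) (h : F.e p = F.e q) : p = q := by
  rw [F.e_eq hp, F.e_eq hq] at h
  exact congrArg Subtype.val (F.inj h)

theorem e_conj {p q : Perm (X n)} (hp : p ∈ PG n) (hq : q ∈ PG n) :
    F.e (p * q * p⁻¹) = F.e p * F.e q * (F.e p)⁻¹ := by
  rw [F.e_mul (mul_mem hp hq) (inv_mem hp), F.e_mul hp hq, F.e_inv hp]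

/-- The involution. -/
noncomputable def t : G := F.e (beta n)

theorem t_eq (h : beta n ∈ PG n) : F.t = F.ι ⟨beta n, h⟩ := F.e_eq h

theorem e_comm_t {p : Perm (X n)} (hp : p ∈ PG n) : F.e p * F.t = F.t * F.e p := by
  rw [t, ← F.e_mul hp beta_mem, ← F.e_mul beta_mem hp, mem_PG.1 hp]

theorem K_comm_t {k : G} (hk : k ∈ F.K) : k * F.t = F.t * k := by
  rw [F.t_eq beta_mem]; exact F.K_comm k hk _

theorem dec_e {g : G} (hg : g * F.t = F.t * g) : ∃ k ∈ F.K, ∃ p ∈ PG n, g = k * F.e p := by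
  obtain ⟨k, hk, p, rfl⟩ := F.dec g fun h => by rw [← F.t_eq h]; exact hg
  exact ⟨k, hk, p, p.2, by rw [F.e_eq p.2]⟩

theorem K_conj {k : G} (hk : k ∈ F.K) {p : Perm (X n)} (hp : p ∈ PG n) : F.e p * k * (F.e p)⁻¹ ∈ F.K := by
  rw [F.e_eq hp]; exact F.K_norm k hk _

/-- An element of `K` mapping one element of the model to another centralises it. -/
theorem K_fix {k : G} (hk : k ∈ F.K) {x y : Perm (X n)} (hx : x ∈ PG n) (hy : y ∈ PG n)
    (h : k * F.e x * k⁻¹ = F.e y) : x = y ∧ k * F.e x = F.e x * k := by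
  have h1 : F.e (y * x⁻¹) ∈ F.K := by
    rw [F.e_mul hy (inv_mem hx), F.e_inv hx, ← h,
      show k * F.e x * k⁻¹ * (F.e x)⁻¹ = k * (F.e x * k⁻¹ * (F.e x)⁻¹) by group]
    exact mul_mem hk (F.K_conj (inv_mem hk) hx)
  rw [F.e_eq (mul_mem hy (inv_mem hx))] at h1
  have h2 : y = x := mul_inv_eq_one.1 (congrArg Subtype.val (F.K_inter _ h1))
  refine ⟨h2.symm, ?_⟩
  rw [h2] at h
  exact mul_inv_eq_iff_eq_mul.1 h

/-- The image of a subgroup of the model. -/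
def im (H : Subgroup (Perm (X n))) : Subgroup G := (H.subgroupOf (PG n)).map F.ι

theorem mem_im {H : Subgroup (Perm (X n))} (hH : H ≤ PG n) {g : G} : g ∈ F.im H ↔ ∃ p ∈ H, F.e p = g := by
  constructor
  · rintro ⟨p, hp, rfl⟩; exact ⟨p, hp, F.e_eq p.2⟩
  · rintro ⟨p, hp, rfl⟩; exact ⟨⟨p, hH hp⟩, hp, (F.e_eq (hH hp)).symm⟩

theorem e_mem_im {H : Subgroup (Perm (X n))} (hH : H ≤ PG n) {p : Perm (X n)} (hp : p ∈ H) : F.e p ∈ F.im H :=
  (F.mem_im hH).2 ⟨p, hp, rfl⟩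

theorem card_im {H : Subgroup (Perm (X n))} (hH : H ≤ PG n) : Nat.card ↥(F.im H) = Nat.card ↥H := by
  rw [im, card_map_of_injective F.inj]
  exact Nat.card_congr (Subgroup.subgroupOfEquivOfLe hH).toEquiv

theorem JG_le_PG : JG n ≤ PG n := JG_le_QG.trans QG_le_PG

theorem AG_le_PG (χ : Fin n → Bool) : AG χ ≤ PG n := (AG_le_JG χ).trans JG_le_PG

theorem A_isPGroup (χ : Fin n → Bool) : IsPGroup 2 ↥(F.im (AG χ)) := by
  rintro ⟨x, hx⟩
  obtain ⟨_, ⟨v, rfl⟩, rfl⟩ := (F.mem_im (AG_le_PG χ)).1 hx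
  refine ⟨1, Subtype.ext ?_⟩
  show F.e (emb χ v) ^ 2 ^ 1 = 1
  rw [pow_one, pow_two, ← F.e_mul (AG_le_PG χ ⟨v, rfl⟩) (AG_le_PG χ ⟨v, rfl⟩), emb_sq, F.e_one]

theorem J_isPGroup : IsPGroup 2 ↥(F.im (JG n)) := by
  have h : ∀ g : Perm B, InD g → g ^ 4 = 1 := by decide +kernel
  rintro ⟨x, hx⟩
  obtain ⟨_, ⟨g, hg, rfl⟩, rfl⟩ := (F.mem_im JG_le_PG).1 hx
  refine ⟨2, Subtype.ext ?_⟩
  show F.e (bm n g) ^ 2 ^ 2 = 1
  rw [F.e_eq (mk_mem_PG.2 hg)]
  rw [← map_pow, ← map_one F.ι]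
  refine congrArg _ (Subtype.ext ?_)
  show bm n g ^ 2 ^ 2 = 1
  rw [← map_pow, ← map_one (bm n)]
  exact congrArg _ (funext fun i => h _ (hg i))

theorem mk_single_mem {i : Fin n} {g : Perm B} (hg : InD g) : bm n (Pi.mulSingle i g) ∈ JG n :=
  ⟨_, fun k => by
    rcases eq_or_ne k i with rfl | h
    · simpa using hg
    · simp [InD, Pi.mulSingle_eq_of_ne h], rfl⟩

theorem zel_single (i : Fin n) : zel (Pi.single i 1) = bm n (Pi.mulSingle i flipB) := by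
  unfold zel
  refine congrArg _ (funext fun k => ?_)
  rcases eq_or_ne k i with rfl | h <;> simp [*]

theorem zel_add (w w' : Fin n → ZMod 2) : zel (w + w') = zel w * zel w' := by
  rw [← emb_zel (fun _ => true), ← emb_zel (fun _ => true), ← emb_zel (fun _ => true), ← emb_add]
  simp

theorem zel_mem (w : Fin n → ZMod 2) : zel w ∈ JG n := by
  rw [← emb_zel (fun _ => true)]; exact AG_le_JG _ ⟨_, rfl⟩

theorem gen_commutator : genB true * genB false * (genB true)⁻¹ * (genB false)⁻¹ = flipB := by decide +kernel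

/-- The normaliser of the block group lies in the centraliser of `t` and permutes the blocks. -/
theorem norm_J {g : G} (hg : ∀ x ∈ F.im (JG n), g * x * g⁻¹ ∈ F.im (JG n)) :
    ∃ k ∈ F.K, ∃ p ∈ QG n, g = k * F.e p ∧ ∀ x ∈ JG n, k * F.e x = F.e x * k := by
  classical
  have hex : ∀ x : ↥(JG n), ∃ y : ↥(JG n), g * F.e x * g⁻¹ = F.e y := fun x => by
    obtain ⟨y, hy, e⟩ := (F.mem_im JG_le_PG).1 (hg _ (F.e_mem_im JG_le_PG x.2))
    exact ⟨⟨y, hy⟩, e.symm⟩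
  choose φ₀ hφ₀ using hex
  let φ : ↥(JG n) →* ↥(JG n) := MonoidHom.mk' φ₀ fun x y => Subtype.ext (F.e_inj (JG_le_PG (φ₀ _).2)
    (JG_le_PG (mul_mem (φ₀ x).2 (φ₀ y).2)) (by
      rw [Subgroup.coe_mul, F.e_mul (JG_le_PG (φ₀ x).2) (JG_le_PG (φ₀ y).2), ← hφ₀, ← hφ₀, ← hφ₀, Subgroup.coe_mul,
        F.e_mul (JG_le_PG x.2) (JG_le_PG y.2)]
      group))
  have hinj : Function.Injective φ := fun x y e => Subtype.ext (F.e_inj (JG_le_PG x.2) (JG_le_PG y.2)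
    (mul_left_cancel (mul_right_cancel ((hφ₀ x).trans ((congrArg (fun z : ↥(JG n) => F.e z) e).trans (hφ₀ y).symm)))))
  have hsurj : Function.Surjective φ := Finite.injective_iff_surjective.1 hinj
  let w : Fin n → ↥(JG n) := fun i => ⟨zel (Pi.single i 1), zel_mem _⟩
  have hw : ∀ i, ∃ k, φ (w i) = w k := by
    intro i
    let a : ↥(JG n) := ⟨_, mk_single_mem (i := i) (gen_inD true)⟩
    let b : ↥(JG n) := ⟨_, mk_single_mem (i := i) (gen_inD false)⟩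
    have hab : a * b * a⁻¹ * b⁻¹ = w i := by
      refine Subtype.ext ?_
      show bm n _ * bm n _ * (bm n _)⁻¹ * (bm n _)⁻¹ = zel (Pi.single i 1)
      rw [zel_single, ← map_inv, ← map_inv, ← map_mul, ← map_mul, ← map_mul]
      refine congrArg _ (funext fun k => ?_)
      rcases eq_or_ne k i with rfl | h
      · simpa using gen_commutator
      · simp [Pi.mulSingle_eq_of_ne h]
    have hall : ∀ y : ↥(JG n), a * y * a⁻¹ * y⁻¹ = 1 ∨ a * y * a⁻¹ * y⁻¹ = w i := by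
      rintro ⟨_, h, hh, rfl⟩
      rcases comm_central _ (gen_inD true) _ (hh i) with e | e
      · left
        refine Subtype.ext ?_
        show bm n _ * bm n h * (bm n _)⁻¹ * (bm n h)⁻¹ = 1
        rw [← map_inv, ← map_inv, ← map_mul, ← map_mul, ← map_mul, ← map_one (bm n)]
        refine congrArg _ (funext fun k => ?_)
        rcases eq_or_ne k i with rfl | hk
        · simpa using e
        · simp [Pi.mulSingle_eq_of_ne hk]
      · right
        refine Subtype.ext ?_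
        show bm n _ * bm n h * (bm n _)⁻¹ * (bm n h)⁻¹ = zel (Pi.single i 1)
        rw [zel_single, ← map_inv, ← map_inv, ← map_mul, ← map_mul, ← map_mul]
        refine congrArg _ (funext fun k => ?_)
        rcases eq_or_ne k i with rfl | hk
        · simpa using e
        · simp [Pi.mulSingle_eq_of_ne hk]
    have hw1 : φ (w i) ≠ 1 := fun e => by
      have e1 : w i = 1 := hinj (e.trans (map_one φ).symm)
      have e2 : zel (Pi.single i (1 : ZMod 2)) = 1 := congrArg Subtype.val e1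
      rw [zel_single, ← map_one (bm n)] at e2
      exact flipB_ne_one (by simpa using congrFun (mk_inj e2) i)
    obtain ⟨h, hh, hha⟩ := (φ a).2
    obtain ⟨k, b', hb'⟩ : ∃ k b', h k * genB b' * (h k)⁻¹ * (genB b')⁻¹ ≠ 1 := by
      by_contra hc
      push Not at hc
      refine hw1 ?_
      rw [← hab, map_mul, map_mul, map_mul, map_inv, map_inv]
      obtain ⟨h', hh', hhb⟩ := (φ b).2
      refine Subtype.ext ?_
      show ((φ a : ↥(JG n)) : Perm (X n)) * (φ b : ↥(JG n)) * ((φ a : ↥(JG n)) : Perm (X n))⁻¹ *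
        ((φ b : ↥(JG n)) : Perm (X n))⁻¹ = 1
      rw [← hha, ← hhb, ← map_inv, ← map_inv, ← map_mul, ← map_mul, ← map_mul, ← map_one (bm n)]
      refine congrArg _ (funext fun k => ?_)
      rcases noncentral _ (hh k) (fun b' => hc k b') with e | e
      · simp [e]
      · show h k * h' k * (h k)⁻¹ * (h' k)⁻¹ = 1
        rw [e, ← hh' k]; group
    obtain ⟨y, hy⟩ := hsurj ⟨_, mk_single_mem (i := k) (gen_inD b')⟩
    have hk : φ a * φ y * (φ a)⁻¹ * (φ y)⁻¹ = w k := by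
      refine Subtype.ext ?_
      rw [hy]
      show ((φ a : ↥(JG n)) : Perm (X n)) * bm n _ * ((φ a : ↥(JG n)) : Perm (X n))⁻¹ * (bm n _)⁻¹ =
        zel (Pi.single k 1)
      rw [← hha, zel_single, ← map_inv, ← map_inv, ← map_mul, ← map_mul, ← map_mul]
      refine congrArg _ (funext fun m => ?_)
      rcases eq_or_ne m k with rfl | hm
      · simpa using (comm_central _ (hh m) _ (gen_inD b')).resolve_left hb'
      · simp [Pi.mulSingle_eq_of_ne hm]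
    rw [← map_inv, ← map_inv, ← map_mul, ← map_mul, ← map_mul] at hk
    refine ⟨k, ?_⟩
    rcases hall y with e | e
    · rw [e, map_one] at hk
      exfalso
      have e2 : zel (Pi.single k (1 : ZMod 2)) = 1 := (congrArg Subtype.val hk).symm
      rw [zel_single, ← map_one (bm n)] at e2
      exact flipB_ne_one (by simpa using congrFun (mk_inj e2) k)
    · rwa [e] at hk
  choose σ hσ using hw
  have hwinj : ∀ i k, w i = w k → i = k := fun i k e => by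
    by_contra hne
    have e2 : zel (Pi.single i (1 : ZMod 2)) = zel (Pi.single k 1) := congrArg Subtype.val e
    rw [zel_single, zel_single] at e2
    exact flipB_ne_one (by simpa [Pi.mulSingle_eq_of_ne hne] using congrFun (mk_inj e2) i)
  have hσinj : Function.Injective σ := fun i k e => hwinj _ _ (hinj (by rw [hσ, hσ, e]))
  have hsum : ∀ s : Finset (Fin n), g * F.e (zel (∑ i ∈ s, Pi.single i 1)) * g⁻¹ =
      F.e (zel (∑ i ∈ s, Pi.single (σ i) 1)) := by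
    intro s
    induction s using Finset.induction with
    | empty =>
      have h0 : zel (0 : Fin n → ZMod 2) = 1 := by rw [← emb_zel (fun _ => true)]; exact emb_zero _
      simp [h0, F.e_one]
    | insert a s ha ih =>
      rw [Finset.sum_insert ha, Finset.sum_insert ha, zel_add, zel_add,
        F.e_mul (JG_le_PG (zel_mem _)) (JG_le_PG (zel_mem _)),
        F.e_mul (JG_le_PG (zel_mem _)) (JG_le_PG (zel_mem _)), ← ih,
        show F.e (zel (Pi.single (σ a) 1)) = g * F.e (zel (Pi.single a 1)) * g⁻¹ from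
          ((hφ₀ (w a)).trans (congrArg (fun z : ↥(JG n) => F.e z) (hσ a))).symm]
      group
  have hz : zel (1 : Fin n → ZMod 2) = beta n := by
    unfold zel beta
    exact congrArg _ (funext fun i => by simp)
  have hgt : g * F.t = F.t * g := by
    have h1 := hsum Finset.univ
    rw [Function.Bijective.sum_comp (Finite.injective_iff_bijective.1 hσinj) (fun i => Pi.single i (1 : ZMod 2)),
      show (∑ i, Pi.single i (1 : ZMod 2)) = (1 : Fin n → ZMod 2) from Finset.univ_sum_single (fun _ => (1 : ZMod 2)),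
      hz] at h1
    exact mul_inv_eq_iff_eq_mul.1 h1
  obtain ⟨k, hk, p, hp, rfl⟩ := F.dec_e hgt
  have hfix : ∀ x ∈ JG n, p * x * p⁻¹ ∈ JG n ∧ k * F.e (p * x * p⁻¹) = F.e (p * x * p⁻¹) * k := by
    intro x hx
    obtain ⟨y, hy, hyx⟩ := (F.mem_im JG_le_PG).1 (hg _ (F.e_mem_im JG_le_PG hx))
    have hpx : p * x * p⁻¹ ∈ PG n := mul_mem (mul_mem hp (JG_le_PG hx)) (inv_mem hp)
    obtain ⟨e1, e2⟩ := F.K_fix hk hpx (JG_le_PG hy) (by rw [hyx, F.e_conj hp (JG_le_PG hx)]; group)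
    exact ⟨e1 ▸ hy, e2⟩
  refine ⟨k, hk, p, mem_QG_fst hp fun i x y => ?_, rfl, fun x hx => ?_⟩
  · obtain ⟨h, hh, hxy⟩ := transitive x y
    obtain ⟨g', -, e⟩ := (hfix _ (mk_single_mem (i := i) hh)).1
    have e' := congrArg (fun q : Perm (X n) => (q (p (i, x))).1) e
    simpa [Perm.mul_apply, mk_apply, hxy] using e'
  · let c : ↥(JG n) →* ↥(JG n) := MonoidHom.mk' (fun x => ⟨p * x * p⁻¹, (hfix _ x.2).1⟩)
      fun a b => Subtype.ext (by simp [mul_assoc])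
    obtain ⟨y, hy⟩ := (Finite.injective_iff_surjective (f := c)).1
      (fun a b e => Subtype.ext (mul_left_cancel (mul_right_cancel (congrArg Subtype.val e)))) ⟨x, hx⟩
    have := (hfix _ y.2).2
    rwa [show p * (y : Perm (X n)) * p⁻¹ = x from congrArg Subtype.val hy] at this

theorem inD_decomp : ∀ g : Perm B, InD g → ∃ p q p' q', g = elt true p q * elt false p' q' := by decide +kernel

variable [Finite G]

/-- The block group is weakly closed. -/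
theorem weak_J {a : G} (ha : ∀ x ∈ F.im (JG n), a * x * a⁻¹ ∈ F.im (QG n)) :
    ∀ x ∈ F.im (JG n), a * x * a⁻¹ ∈ F.im (JG n) := by
  classical
  have hA : ∀ χ : Fin n → Bool, ∀ v, a * F.e (emb χ v) * a⁻¹ ∈ F.im (JG n) := by
    intro χ v
    have hin : ∀ x : ↥(AG χ), ∃ y : ↥(QG n), a * F.e x * a⁻¹ = F.e y := fun x => by
      obtain ⟨y, hy, e⟩ := (F.mem_im QG_le_PG).1 (ha _ (F.e_mem_im JG_le_PG (AG_le_JG χ x.2)))
      exact ⟨⟨y, hy⟩, e.symm⟩
    choose f hf using hin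
    let φ : ↥(AG χ) →* ↥(QG n) := MonoidHom.mk' f fun x y => Subtype.ext (F.e_inj (QG_le_PG (f _).2)
      (QG_le_PG (mul_mem (f x).2 (f y).2)) (by
        rw [Subgroup.coe_mul, F.e_mul (QG_le_PG (f x).2) (QG_le_PG (f y).2), ← hf, ← hf, ← hf, Subgroup.coe_mul,
          F.e_mul (AG_le_PG χ x.2) (AG_le_PG χ y.2)]
        group))
    have hinj : Function.Injective ((QG n).subtype.comp φ) := fun x y e => by
      have e1 : φ x = φ y := Subtype.ext e
      refine Subtype.ext (F.e_inj (AG_le_PG χ x.2) (AG_le_PG χ y.2) ?_)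
      exact mul_left_cancel (mul_right_cancel ((hf x).trans ((congrArg (fun z : ↥(QG n) => F.e z) e1).trans (hf y).symm)))
    set A' := ((QG n).subtype.comp φ).range
    have hle : A' ≤ QG n := by rintro _ ⟨x, rfl⟩; exact (φ x).2
    have he : Elem A' := by
      refine ⟨?_, ?_⟩
      · rintro _ ⟨x, rfl⟩ _ ⟨y, rfl⟩
        rw [← map_mul, ← map_mul]
        exact congrArg _ (Subtype.ext ((AG_elem χ).1 _ x.2 _ y.2))
      · rintro _ ⟨x, rfl⟩
        rw [← map_mul, ← map_one ((QG n).subtype.comp φ)]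
        exact congrArg _ (Subtype.ext ((AG_elem χ).2 _ x.2))
    have hc : 4 ^ n ≤ Nat.card ↥A' := by
      rw [← card_AG χ, Nat.card_congr (MonoidHom.ofInjective hinj).toEquiv]
    have h := (rank_bound hle he).2 hc ⟨⟨emb χ v, v, rfl⟩, rfl⟩
    rw [hf ⟨emb χ v, v, rfl⟩]
    exact F.e_mem_im JG_le_PG h
  intro x hx
  obtain ⟨_, ⟨g, hg, rfl⟩, rfl⟩ := (F.mem_im JG_le_PG).1 hx
  choose p q p' q' hpq using fun i => inD_decomp (g i) (hg i)
  have e : bm n g = emb (fun _ => true) (p, q) * emb (fun _ => false) (p', q') := by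
    rw [emb, emb, ← map_mul]; exact congrArg _ (funext hpq)
  rw [e, F.e_mul (AG_le_PG _ ⟨_, rfl⟩) (AG_le_PG _ ⟨_, rfl⟩),
    show ∀ b c, a * (b * c) * a⁻¹ = a * b * a⁻¹ * (a * c * a⁻¹) from fun b c => by group]
  exact mul_mem (hA _ _) (hA _ _)

/-- A conjugation into a finite subgroup is a normalisation. -/
theorem conj_back {W : Subgroup G} {a : G} (ha : ∀ x ∈ W, a * x * a⁻¹ ∈ W) {x : G} (hx : x ∈ W) :
    a⁻¹ * x * a ∈ W := by
  let c : ↥W → ↥W := fun y => ⟨a * y * a⁻¹, ha _ y.2⟩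
  obtain ⟨y, hy⟩ := (Finite.injective_iff_surjective (f := c)).1
    (fun y z e => Subtype.ext (mul_left_cancel (mul_right_cancel (congrArg Subtype.val e)))) ⟨x, hx⟩
  rw [show x = a * (y : G) * a⁻¹ from (congrArg Subtype.val hy).symm]
  simpa [mul_assoc] using y.2

/-- The normaliser of an image of a choice. -/
def N (χ : Fin n → Bool) : Subgroup G := Subgroup.normalizer ((F.im (AG χ) : Subgroup G) : Set G)

theorem mem_N_of {χ : Fin n → Bool} {a : G} (ha : ∀ x ∈ F.im (AG χ), a * x * a⁻¹ ∈ F.im (AG χ)) : a ∈ F.N χ := by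
  refine Subgroup.mem_normalizer_iff.2 fun x => ⟨ha x, fun h => ?_⟩
  simpa [mul_assoc] using conj_back ha h

theorem N_mem {χ : Fin n → Bool} {a : G} (ha : a ∈ F.N χ) {x : G} (hx : x ∈ F.im (AG χ)) :
    a * x * a⁻¹ ∈ F.im (AG χ) := (Subgroup.mem_normalizer_iff.1 ha x).1 hx

theorem JG_norm_AG {χ : Fin n → Bool} {p : Perm (X n)} (hp : p ∈ JG n) : F.e p ∈ F.N χ := by
  refine F.mem_N_of fun x hx => ?_
  obtain ⟨y, hy, rfl⟩ := (F.mem_im (AG_le_PG χ)).1 hx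
  rw [← F.e_conj (JG_le_PG hp) (AG_le_PG χ hy)]
  exact F.e_mem_im (AG_le_PG χ)
    (JG_normalises (AG_le_JG χ) (AG_elem χ) (card_AG χ).ge p hp y hy)

/-- A conjugate inside a 2-subgroup of the normaliser, moved into the model. -/
theorem norm_two (χ : Fin n → Bool) : ∃ T : Subgroup G, T ≤ F.N χ ∧ F.im (JG n) ≤ T ∧
    (∀ P : Subgroup G, P ≤ F.N χ → IsPGroup 2 ↥P → ∃ w ∈ F.N χ, ∀ x ∈ P, w * x * w⁻¹ ∈ T) ∧
    ∃ a : G, (∀ x ∈ T, a * x * a⁻¹ ∈ F.im (QG n)) := by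
  haveI : Fact (Nat.Prime 2) := ⟨Nat.prime_two⟩
  have hJN : F.im (JG n) ≤ F.N χ := by
    intro x hx
    obtain ⟨p, hp, rfl⟩ := (F.mem_im JG_le_PG).1 hx
    exact F.JG_norm_AG hp
  obtain ⟨T, hT⟩ := (F.J_isPGroup.comap_subtype (K := F.N χ)).exists_le_sylow
  refine ⟨(T : Subgroup ↥(F.N χ)).map (F.N χ).subtype, map_subtype_le _, fun x hx => ⟨⟨x, hJN hx⟩, hT hx, rfl⟩,
    fun P hP hP2 => ?_, F.sylow _ (T.isPGroup'.map _)⟩
  obtain ⟨w, hw⟩ := exists_conj_subset_sylow (hP2.comap_subtype (K := F.N χ)) T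
  exact ⟨w, w.2, fun x hx => ⟨w * ⟨x, hP hx⟩ * w⁻¹, hw _ hx, rfl⟩⟩

theorem J_of_T {T : Subgroup G} (hJT : F.im (JG n) ≤ T) {a : G} (ha : ∀ x ∈ T, a * x * a⁻¹ ∈ F.im (QG n)) :
    ∃ k ∈ F.K, ∃ p ∈ QG n, a = k * F.e p ∧ ∀ x ∈ JG n, k * F.e x = F.e x * k :=
  F.norm_J (F.weak_J fun x hx => ha x (hJT hx))

/-- A conjugate of a choice in the model is conjugate by a block permutation. -/
theorem A_conj {χ : Fin n → Bool} {a : G} (ha : ∀ x ∈ F.im (AG χ), a * x * a⁻¹ ∈ F.im (QG n)) :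
    ∃ p ∈ QG n, (F.e p)⁻¹ * a ∈ F.N χ := by
  classical
  obtain ⟨T, hTN, hJT, hsyl, a₂, ha₂⟩ := F.norm_two χ
  -- the conjugate is elementary abelian of rank `2n` in `J`, so `J` normalises it
  let A' : Subgroup G := (F.im (AG χ)).map (MulAut.conj a).toMonoidHom
  let A'' : Subgroup (Perm (X n)) := ((A'.comap F.ι).map (PG n).subtype)
  have hA' : ∀ y, y ∈ A'' ↔ y ∈ PG n ∧ F.e y ∈ A' := fun y => by
    constructor
    · rintro ⟨z, hz, rfl⟩; exact ⟨z.2, by rw [show F.e ((PG n).subtype z) = F.ι z from F.e_eq z.2]; exact hz⟩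
    · rintro ⟨hy, hy'⟩; exact ⟨⟨y, hy⟩, by rw [F.e_eq hy] at hy'; exact hy', rfl⟩
  have hA'Q : A'' ≤ QG n := fun y hy => by
    obtain ⟨hyP, x, hx, hxy⟩ := (hA' y).1 hy
    obtain ⟨z, hz, hzx⟩ := (F.mem_im QG_le_PG).1 (ha x hx)
    rw [F.e_inj hyP (QG_le_PG hz) (by rw [hzx]; exact hxy.symm)]; exact hz
  have hA'e : Elem A'' := by
    have hA'el : ∀ u ∈ A', u * u = 1 ∧ ∀ v ∈ A', u * v = v * u := by
      rintro _ ⟨x, hx, rfl⟩
      obtain ⟨y, hy, rfl⟩ := (F.mem_im (AG_le_PG χ)).1 hx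
      refine ⟨?_, ?_⟩
      · rw [← map_mul, ← F.e_mul (AG_le_PG χ hy) (AG_le_PG χ hy), (AG_elem χ).2 y hy, F.e_one, map_one]
      · rintro _ ⟨x', hx', rfl⟩
        obtain ⟨y', hy', rfl⟩ := (F.mem_im (AG_le_PG χ)).1 hx'
        rw [← map_mul, ← map_mul, ← F.e_mul (AG_le_PG χ hy) (AG_le_PG χ hy'),
          ← F.e_mul (AG_le_PG χ hy') (AG_le_PG χ hy), (AG_elem χ).1 y hy y' hy']
    refine ⟨fun u hu v hv => ?_, fun u hu => ?_⟩
    · obtain ⟨hu1, hu2⟩ := (hA' u).1 hu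
      obtain ⟨hv1, hv2⟩ := (hA' v).1 hv
      exact F.e_inj (mul_mem hu1 hv1) (mul_mem hv1 hu1)
        (by rw [F.e_mul hu1 hv1, F.e_mul hv1 hu1, (hA'el _ hu2).2 _ hv2])
    · obtain ⟨hu1, hu2⟩ := (hA' u).1 hu
      exact F.e_inj (mul_mem hu1 hu1) (one_mem _) (by rw [F.e_mul hu1 hu1, (hA'el _ hu2).1, F.e_one])
  have hA'c : 4 ^ n ≤ Nat.card ↥A'' := by
    rw [← card_AG χ, ← F.card_im (AG_le_PG χ)]
    refine le_of_eq ?_
    rw [show Nat.card ↥A'' = Nat.card ↥(A'.comap F.ι) from card_map_of_injective (PG n).subtype_injective,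
      ← card_map_of_injective F.inj, map_comap_eq_self]
    · exact (card_map_of_injective (MulAut.conj a).injective).symm
    · rintro _ ⟨x, hx, rfl⟩
      obtain ⟨z, hz, e⟩ := (F.mem_im QG_le_PG).1 (ha x hx)
      exact ⟨⟨z, QG_le_PG hz⟩, by rw [← F.e_eq (QG_le_PG hz), e]; rfl⟩
  have hA'J := (rank_bound hA'Q hA'e).2 hA'c
  have hnorm : ∀ j ∈ F.im (JG n), a⁻¹ * j * a ∈ F.N χ := by
    intro j hj
    refine F.mem_N_of fun x hx => ?_
    obtain ⟨p, hp, rfl⟩ := (F.mem_im JG_le_PG).1 hj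
    obtain ⟨z, hz, hzx⟩ := (F.mem_im QG_le_PG).1 (ha x hx)
    have hzA : z ∈ A'' := (hA' z).2 ⟨QG_le_PG hz, x, hx, hzx.symm⟩
    obtain ⟨hy, x', hx', hxy⟩ := (hA' _).1 (JG_normalises hA'J hA'e hA'c p hp z hzA)
    rw [show a⁻¹ * F.e p * a * x * (a⁻¹ * F.e p * a)⁻¹ = a⁻¹ * (F.e p * (a * x * a⁻¹) * (F.e p)⁻¹) * a by group,
      ← hzx, ← F.e_conj (JG_le_PG hp) (QG_le_PG hz)]
    rw [show F.e (p * z * p⁻¹) = a * x' * a⁻¹ from hxy.symm]
    simpa [mul_assoc] using hx'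
  obtain ⟨w, hw, hwT⟩ := hsyl ((F.im (JG n)).map (MulAut.conj a⁻¹).toMonoidHom)
    (by rintro _ ⟨j, hj, rfl⟩; simpa using hnorm j hj) (F.J_isPGroup.map _)
  have ha₃ : ∀ j ∈ F.im (JG n), (a₂ * w * a⁻¹) * j * (a₂ * w * a⁻¹)⁻¹ ∈ F.im (QG n) := fun j hj => by
    have h := ha₂ _ (hwT _ ⟨j, hj, rfl⟩)
    convert h using 1
    simp [mul_assoc]
  obtain ⟨k, hk, p₂, hp₂, he₂, hkJ⟩ := F.J_of_T hJT ha₂
  obtain ⟨k', hk', p₃, hp₃, he₃, hk'J⟩ := F.norm_J (F.weak_J ha₃)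
  refine ⟨p₃⁻¹ * p₂, mul_mem (inv_mem hp₃) hp₂, F.mem_N_of fun x hx => ?_⟩
  -- `a = (k' p₃)⁻¹ (k p₂) w`
  obtain ⟨y, hy, hyx⟩ := (F.mem_im (AG_le_PG χ)).1 (F.N_mem hw hx)
  have hpy : p₂ * y * p₂⁻¹ ∈ JG n := by
    obtain ⟨π, ε, h⟩ := QG_emb hp₂ χ
    obtain ⟨v, rfl⟩ := hy
    rw [h]; exact AG_le_JG _ ⟨_, rfl⟩
  have hax : a * x * a⁻¹ = (F.e p₃)⁻¹ * F.e (p₂ * y * p₂⁻¹) * F.e p₃ := by
    have e0 : a = (k' * F.e p₃)⁻¹ * (k * F.e p₂) * w := by rw [← he₂, ← he₃]; group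
    calc a * x * a⁻¹ = (F.e p₃)⁻¹ * (k'⁻¹ * (k * (F.e p₂ * (w * x * w⁻¹) * (F.e p₂)⁻¹) * k⁻¹) * k') * F.e p₃ := by
          rw [e0]; group
      _ = _ := by
          rw [← hyx, ← F.e_conj (QG_le_PG hp₂) (AG_le_PG χ hy), hkJ _ hpy, mul_inv_cancel_right, mul_assoc _ _ k',
            ← hk'J _ hpy, inv_mul_cancel_left]
  have hp32 : p₃⁻¹ * p₂ ∈ PG n := mul_mem (inv_mem (QG_le_PG hp₃)) (QG_le_PG hp₂)
  rw [show (F.e (p₃⁻¹ * p₂))⁻¹ * a * x * ((F.e (p₃⁻¹ * p₂))⁻¹ * a)⁻¹ =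
    (F.e (p₃⁻¹ * p₂))⁻¹ * (a * x * a⁻¹) * F.e (p₃⁻¹ * p₂) by group, hax,
    F.e_mul (inv_mem (QG_le_PG hp₃)) (QG_le_PG hp₂), F.e_inv (QG_le_PG hp₃),
    F.e_conj (QG_le_PG hp₂) (AG_le_PG χ hy)]
  have : F.e y ∈ F.im (AG χ) := F.e_mem_im (AG_le_PG χ) hy
  simpa [mul_assoc] using this

/-- A weakly closed 2-subgroup controls the fusion of its central elements. -/
theorem weak_control {W : Subgroup G} (hW2 : IsPGroup 2 ↥W)
    (hW : ∀ a : G, (∀ x ∈ W, a * x * a⁻¹ ∈ F.im (QG n)) → ∀ x ∈ W, a * x * a⁻¹ ∈ W)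
    {x y g : G} (hcx : ∀ u ∈ W, u * x = x * u) (hcy : ∀ u ∈ W, u * y = y * u) (hg : g * x * g⁻¹ = y) :
    ∃ m, (∀ u ∈ W, m * u * m⁻¹ ∈ W) ∧ m * x * m⁻¹ = y := by
  haveI : Fact (Nat.Prime 2) := ⟨Nat.prime_two⟩
  set C := Subgroup.centralizer ({y} : Set G)
  have hWC : W ≤ C := fun u hu => Subgroup.mem_centralizer_singleton_iff.2 (hcy u hu)
  have hW'C : W.map (MulAut.conj g).toMonoidHom ≤ C := by
    rintro _ ⟨u, hu, rfl⟩
    refine Subgroup.mem_centralizer_singleton_iff.2 ?_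
    rw [← hg]
    simp only [MulEquiv.coe_toMonoidHom, MulAut.conj_apply]
    calc g * u * g⁻¹ * (g * x * g⁻¹) = g * (u * x) * g⁻¹ := by group
      _ = g * (x * u) * g⁻¹ := by rw [hcx u hu]
      _ = _ := by group
  obtain ⟨R, hR⟩ := (hW2.comap_subtype (K := C)).exists_le_sylow
  obtain ⟨c, hc⟩ := exists_conj_subset_sylow ((hW2.map (MulAut.conj g).toMonoidHom).comap_subtype (K := C)) R
  obtain ⟨a, ha⟩ := F.sylow _ (R.isPGroup'.map C.subtype)
  have h1 : ∀ u ∈ W, a * u * a⁻¹ ∈ W := hW a fun u hu => ha u ⟨⟨u, hWC hu⟩, hR hu, rfl⟩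
  have h2 : ∀ u ∈ W, (a * c * g) * u * (a * c * g)⁻¹ ∈ W := hW _ fun u hu => by
    have hu' : g * u * g⁻¹ ∈ W.map (MulAut.conj g).toMonoidHom := ⟨u, hu, rfl⟩
    have h := ha _ ⟨c * ⟨g * u * g⁻¹, hW'C hu'⟩ * c⁻¹, hc _ hu', rfl⟩
    rw [show a * (c : G) * g * u * (a * c * g)⁻¹ = a * ((c : G) * (g * u * g⁻¹) * (c : G)⁻¹) * a⁻¹ by group]
    exact h
  refine ⟨c * g, fun u hu => ?_, ?_⟩
  · have := conj_back h1 (h2 u hu)
    convert this using 1
    simp [mul_assoc]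
  · have hcy' : (c : G) * y = y * (c : G) := Subgroup.mem_centralizer_singleton_iff.1 c.2
    rw [show (c : G) * g * x * ((c : G) * g)⁻¹ = c * (g * x * g⁻¹) * (c : G)⁻¹ by group, hg, hcy',
      mul_inv_cancel_right]

end Frame

end Cfsg.Agent.Invol.Kondo
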