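import Cfsg.Agent.Lib.Invol.KondoClasses.Local
import Cfsg.Agent.Lib.Fus.ZStarCenter
import Cfsg.Agent.S0111

/-!
# Every involution is fused into the centre of the block group; there are `n` classes (for S3191)
-/

set_option autoImplicit false

namespace Cfsg.Agent.Invol.Kondo

open Equiv Subgroup

universe u

variable {n : ℕ}

namespace Frame

variable {G : Type u} [Group G] [Finite G] (F : Frame G n)

/-- The constant choice `b` moves `t`. -/
def Moved (b : Bool) : Prop := ∃ g ∈ (F.lin (fun _ => b)).L, g tt ≠ tt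

/-- A conjugate of `t` with no `s`-part is `t`. -/
theorem eq_tt {χ : Fin n → Bool} {x : V n} (h : IsConj F.t (F.E χ x)) (hx : x.2 = 0) : x = tt := by
  have e1 : F.E χ x = F.e (zel x.1) := by
    rw [E, show x = (x.1, 0) from Prod.ext rfl hx, emb_zel]
  have e2 : F.t = F.e (zel 1) := by
    rw [← F.E_tt χ, E, tt, emb_zel]
  rw [e1, e2] at h
  obtain ⟨π, hπ⟩ := F.zel_control h
  exact Prod.ext hπ hx

theorem swap_single {χ : Fin n → Bool} {i j : Fin n} (h : χ i = χ j) (hs : (F.lin χ).Single i) :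
    (F.lin χ).Single j := by
  obtain ⟨d, c, hd, hc⟩ := hs
  have hN : F.e (bp n (Equiv.swap i j)) ∈ F.N χ := F.bp_mem_N fun k => by
    rcases eq_or_ne k i with rfl | h1
    · simp [h]
    rcases eq_or_ne k j with rfl | h2
    · simp [h]
    rw [Equiv.swap_apply_of_ne_of_ne h1 h2]
  set m := F.act χ ⟨_, hN⟩
  refine ⟨m * d * m⁻¹, m c, hd.conj (g := m) ⟨_, rfl⟩, ?_⟩
  have e : m c = (c.1 ∘ ⇑(Equiv.swap i j)⁻¹, c.2 ∘ ⇑(Equiv.swap i j)⁻¹) := F.act_eq _ (by
    rw [F.conj_E (bp_mem_PG _), bp_emb]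
    exact F.E_congr fun k _ => by
      show χ ((Equiv.swap i j)⁻¹ k) = χ k
      rw [Equiv.swap_inv]
      rcases eq_or_ne k i with rfl | h1
      · simp [h]
      rcases eq_or_ne k j with rfl | h2
      · simp [h]
      rw [Equiv.swap_apply_of_ne_of_ne h1 h2])
  rw [e]
  funext k
  show c.2 ((Equiv.swap i j)⁻¹ k) = _
  rw [hc, Equiv.swap_inv, Pi.single_apply, Pi.single_apply]
  have : (Equiv.swap i j k = i) ↔ k = j := by
    rw [Equiv.apply_eq_iff_eq_symm_apply]; simp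
  simp only [this]

/-- A single block gives a conjugate of `t` with that support. -/
theorem conj_of_single {χ : Fin n → Bool} {i : Fin n} (hs : (F.lin χ).Single i) :
    ∃ x : V n, x.2 = Pi.single i 1 ∧ IsConj F.t (F.E χ x) := by
  obtain ⟨d, c, hd, hc⟩ := hs
  have e : d tt = tt + c := by rw [hd.moves_tt, hc]; simp
  refine ⟨tt + c, by simp [tt, hc], ?_⟩
  rw [← F.E_tt χ, ← e]
  exact F.isConj_of_mem hd.mem tt

theorem moved_of_single {χ : Fin n → Bool} {i : Fin n} (hs : (F.lin χ).Single i) : F.Moved (χ i) := by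
  obtain ⟨x, hx, hc⟩ := F.conj_of_single hs
  rw [F.E_congr (χ' := fun _ => χ i) fun k hk => by
    rw [hx, Pi.single_apply] at hk
    by_cases e : k = i
    · rw [e]
    · simp [e] at hk] at hc
  obtain ⟨g, hg, hgx⟩ := F.moved_of_conj hc
  refine ⟨g, hg, fun e => ?_⟩
  have h1 := congrFun (congrArg Prod.snd (hgx.symm.trans e)) i
  simp [hx, tt] at h1

theorem single_of_moved {b : Bool} (hb : F.Moved b) {χ : Fin n → Bool} {i : Fin n} (hi : χ i = b) :
    (F.lin χ).Single i := by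
  classical
  obtain ⟨g, hg, hne⟩ := hb
  obtain ⟨i₀, h₀⟩ := (F.lin _).exists_single hg hne
  obtain ⟨x, hx, hc⟩ := F.conj_of_single (F.swap_single (χ := fun _ => b) (i := i₀) (j := i) rfl h₀)
  rw [F.E_congr (χ' := χ) fun k hk => by
    rw [hx, Pi.single_apply] at hk
    by_cases e : k = i
    · rw [e]; exact hi.symm
    · simp [e] at hk] at hc
  obtain ⟨m, hm, hmx⟩ := F.moved_of_conj hc
  obtain ⟨j, hj, hjs⟩ := (F.lin χ).exists_single_in (fun k => χ k = b)
    (fun f f' hf hf' h => F.swap_single ((Bool.eq_not.2 hf).trans (Bool.eq_not.2 hf').symm) h) hm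
    (by rw [hmx, hx]; simp [Pi.single_apply, hi])
  exact F.swap_single (hj.trans hi.symm) hjs

/-- The blocks of kind `b` can be cleared once `b` moves. -/
theorem clear_kind {b : Bool} (hb : F.Moved b) (χ : Fin n → Bool) (x : V n) :
    ∃ y : V n, IsConj (F.E χ x) (F.E χ y) ∧ ∀ i, y.2 i = if χ i = b then 0 else x.2 i := by
  classical
  obtain ⟨g, hg, hgx⟩ := (F.lin χ).reduce (Finset.univ.filter fun i => χ i = b)
    (fun i hi => F.single_of_moved hb (Finset.mem_filter.1 hi).2) x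
  exact ⟨g x, F.isConj_of_mem hg x, fun i => by simpa using hgx i⟩

omit [Finite G] in
theorem e_sub (q : ↥(PG n)) : F.e q = F.ι q := F.e_eq q.2

/-- An involution of the model goes into a choice inside the centraliser of `t`. -/
theorem exists_choice {q : ↥(PG n)} (hq : (q : Perm (X n)) * q = 1) :
    ∃ (c : G) (χ : Fin n → Bool) (x : V n), c * F.t = F.t * c ∧ c * F.e q * c⁻¹ = F.E χ x := by
  obtain ⟨h, hh, χ, x, e⟩ := exists_conj_emb q.2 hq
  exact ⟨F.e h, χ, x, F.e_comm_t hh, by rw [← F.e_conj hh q.2, e]; rfl⟩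

/-- One moved kind moves the other. -/
theorem moved_not {b : Bool} (hb : F.Moved b) (i₀ : Fin n) : F.Moved (!b) := by
  classical
  haveI : Fact (Nat.Prime 2) := ⟨Nat.prime_two⟩
  obtain ⟨R, hJR, hRQ⟩ := F.exists_sylow
  set χ' : Fin n → Bool := fun _ => !b
  set x₀ : V n := sb i₀
  have hu : F.E χ' x₀ ∈ (R : Subgroup G) := hJR (F.e_mem_im JG_le_PG (AG_le_JG _ ⟨_, rfl⟩))
  have hpar₀ : par (!b) ⟨emb χ' x₀, emb_mem χ' x₀⟩ = -1 := by
    rw [par_emb]; simp [χ', x₀, sb, Pi.single_apply, Finset.prod_ite_eq']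
  let M : Subgroup G := (R : Subgroup G) ⊓ (par (!b)).ker.map F.ι
  have hmemM : ∀ {q : ↥(PG n)}, F.ι q ∈ M → par (!b) q = 1 := fun {q} h => by
    obtain ⟨q', hq', e⟩ := h.2
    rw [← F.inj e]; exact hq'
  have hMi : M.relIndex (R : Subgroup G) = 2 := by
    rw [Subgroup.relIndex, Subgroup.index_eq_two_iff]
    refine ⟨⟨F.E χ' x₀, hu⟩, fun r => ?_⟩
    obtain ⟨q, hq, hqe⟩ := (F.mem_im QG_le_PG).1 (hRQ r.2)
    set q' : ↥(PG n) := ⟨q, QG_le_PG hq⟩
    set u' : ↥(PG n) := ⟨emb χ' x₀, emb_mem χ' x₀⟩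
    have hr : ((r : ↥(R : Subgroup G)) : G) = F.ι q' := by rw [← hqe]; exact F.e_eq _
    have hu' : F.E χ' x₀ = F.ι u' := F.e_eq _
    have hiff : ∀ (s : ↥(R : Subgroup G)) (a : ↥(PG n)), (s : G) = F.ι a →
        (s ∈ M.subgroupOf (R : Subgroup G) ↔ par (!b) a = 1) := fun s a hs => by
      rw [Subgroup.mem_subgroupOf]
      exact ⟨fun h => hmemM (hs ▸ h), fun h => ⟨s.2, hs ▸ ⟨a, h, rfl⟩⟩⟩
    rw [hiff r q' hr, hiff _ (q' * u') (((Subgroup.coe_mul _ _ _).trans (congrArg₂ (· * ·) hr hu')).trans (map_mul _ _ _).symm), map_mul, hpar₀]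
    rcases Int.units_eq_one_or (par (!b) q') with e | e <;> simp [e]
  have hu2 : orderOf (F.E χ' x₀) = 2 := by
    refine orderOf_eq_prime ?_ fun e => ?_
    · rw [pow_two, ← F.E_add, vadd_self, E, emb_zero, F.e_one]
    · have h0 : F.E χ' x₀ = F.E χ' 0 := e.trans (by rw [E, emb_zero, F.e_one])
      simpa [x₀, sb] using congrFun (congrArg Prod.snd (F.E_inj χ' h0)) i₀
  have huM : F.E χ' x₀ ∉ M := fun h => by
    rw [E, F.e_eq (emb_mem χ' x₀)] at h
    have := hmemM h
    rw [hpar₀] at this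
    exact absurd this (by decide)
  rcases Cfsg.Agent.S0111.result R M inf_le_left hMi _ hu2 hu huM with ⟨H, hH, h2, -⟩ | ⟨g, hg⟩
  · exact absurd h2 (F.no_two H hH)
  obtain ⟨q, hqker, hqe⟩ := hg.2
  have hq2 : (q : Perm (X n)) * q = 1 := by
    have e : F.ι (q * q) = F.ι 1 := by
      rw [map_mul, map_one, hqe,
        show g * F.E χ' x₀ * g⁻¹ * (g * F.E χ' x₀ * g⁻¹) = g * (F.E χ' x₀ * F.E χ' x₀) * g⁻¹ by group,
        ← F.E_add, vadd_self, E, emb_zero, F.e_one]
      group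
    exact congrArg Subtype.val (F.inj e)
  obtain ⟨c, χ, x, hct, hcx⟩ := F.exists_choice hq2
  have hparx : par (!b) ⟨emb χ x, emb_mem χ x⟩ = 1 := by
    rw [← F.par_invariant hct (!b) (q := q) (r := ⟨emb χ x, emb_mem χ x⟩) hcx]; exact hqker
  obtain ⟨y, hxy, hy⟩ := F.clear_kind hb χ x
  have hparY : par (!b) ⟨emb χ' y, emb_mem χ' y⟩ = 1 := by
    rw [← hparx, par_emb, par_emb]
    refine Finset.prod_congr rfl fun i _ => ?_
    rw [hy i]
    cases hχ : χ i <;> cases b <;> simp_all [χ']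
  have hEy : F.E χ y = F.E χ' y := F.E_congr fun i hi => by
    rw [hy i] at hi
    by_cases e : χ i = b
    · simp [e] at hi
    · exact Bool.eq_not.2 e
  have hconj : IsConj (F.E χ' x₀) (F.E χ' y) := by
    rw [← hEy]
    refine IsConj.trans (isConj_iff.2 ⟨c * g, ?_⟩) hxy
    rw [← hcx, F.e_sub, hqe]; group
  obtain ⟨h, hh, hhy⟩ := F.const_control (!b) hconj
  refine ⟨h, hh, fun e => ?_⟩
  obtain ⟨m, rfl⟩ := F.mem_L hh
  have hmt : (m : G) * F.t = F.t * (m : G) := by
    have e' := F.act_spec m tt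
    rw [e, F.E_tt] at e'
    exact mul_inv_eq_iff_eq_mul.1 e'.symm
  have := F.par_invariant hmt (!b) (q := ⟨emb χ' x₀, emb_mem χ' x₀⟩) (r := ⟨emb χ' y, emb_mem χ' y⟩) (by
    have e' := F.act_spec m x₀
    rw [hhy] at e'
    exact e'.symm)
  rw [hpar₀, hparY] at this
  exact absurd this (by decide)

/-- `t` is not isolated. -/
theorem exists_fused (i₀ : Fin n) : ∃ (χ : Fin n → Bool) (x : V n), x ≠ tt ∧ IsConj F.t (F.E χ x) := by
  classical
  haveI : Fact (Nat.Prime 2) := ⟨Nat.prime_two⟩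
  obtain ⟨R, hJR, hRQ⟩ := F.exists_sylow
  by_contra hno
  push Not at hno
  have htR : F.t ∈ (R : Subgroup G) := by
    rw [← F.E_tt fun _ => true]
    exact hJR (F.e_mem_im JG_le_PG (AG_le_JG _ ⟨_, rfl⟩))
  have hiso : Fus.IsoElt R F.t := by
    refine ⟨htR, fun g hg => ?_⟩
    obtain ⟨q, hq, hqe⟩ := (F.mem_im QG_le_PG).1 (hRQ hg)
    have hqP := QG_le_PG hq
    have hq2 : q * q = 1 := F.e_inj (mul_mem hqP hqP) (one_mem _) (by
      rw [F.e_mul hqP hqP, hqe, F.e_one,
        show g * F.t * g⁻¹ * (g * F.t * g⁻¹) = g * (F.t * F.t) * g⁻¹ by group]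
      rw [← F.E_tt fun _ => true, ← F.E_add, vadd_self, E, emb_zero, F.e_one]
      group)
    obtain ⟨c, χ, x, hct, hcx⟩ := F.exists_choice (q := ⟨q, hqP⟩) hq2
    have hx : x = tt := by
      by_contra hx
      exact hno χ x hx (isConj_iff.2 ⟨c * g, by rw [← hcx]; show _ = c * F.e q * c⁻¹; rw [hqe]; group⟩)
    have h1 : c * (g * F.t * g⁻¹) * c⁻¹ = F.t := by
      rw [← hqe]; exact hcx.trans (by rw [hx, F.E_tt])
    refine mul_left_cancel (a := c) (mul_right_cancel (b := c⁻¹) (h1.trans ?_))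
    rw [hct, mul_inv_cancel_right]
  set O := Cfsg.oddCore G
  haveI hOn : O.Normal := Grp.pPrimeCore_isNormal
  have hcom : ∀ g : G, F.t * g * F.t⁻¹ * g⁻¹ ∈ O := fun g => Fus.IsoElt.commutator_mem _ G rfl R F.t hiso g
  -- the centraliser covers `G` modulo the core
  have hcover : ∀ g : G, ∃ o ∈ O, ∃ c, c * F.t = F.t * c ∧ g = o * c := by
    intro g
    have hnormal : (O ⊔ Subgroup.zpowers F.t).Normal := ⟨fun z hz a => by
      obtain ⟨o, ho, w, hw, rfl⟩ := Subgroup.mem_sup_of_normal_left.1 hz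
      obtain ⟨l, rfl⟩ := Subgroup.mem_zpowers_iff.1 hw
      have hta : a * F.t * a⁻¹ ∈ O ⊔ Subgroup.zpowers F.t := by
        rw [show a * F.t * a⁻¹ = (F.t * a * F.t⁻¹ * a⁻¹)⁻¹ * F.t by group]
        exact mul_mem (Subgroup.mem_sup_left (inv_mem (hcom a))) (Subgroup.mem_sup_right (Subgroup.mem_zpowers _))
      rw [show a * (o * F.t ^ l) * a⁻¹ = a * o * a⁻¹ * (a * F.t ^ l * a⁻¹) by group, ← conj_zpow]
      exact mul_mem (Subgroup.mem_sup_left (hOn.conj_mem o ho a)) (zpow_mem hta l)⟩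
    have htO : F.t ∈ O ⊔ Subgroup.zpowers F.t := Subgroup.mem_sup_right (Subgroup.mem_zpowers _)
    set Hs := O ⊔ Subgroup.zpowers F.t
    obtain ⟨T, hT⟩ := (((R.isPGroup'.to_le (Subgroup.zpowers_le.2 htR))).comap_subtype (K := Hs)).exists_le_sylow
    have htT : (⟨F.t, htO⟩ : ↥Hs) ∈ (T : Subgroup ↥Hs) := hT (Subgroup.mem_zpowers F.t)
    obtain ⟨w, hw⟩ := exists_conj_subset_sylow
      (((R.isPGroup'.to_le (Subgroup.zpowers_le.2 htR)).map (MulAut.conj g).toMonoidHom).comap_subtype (K := Hs)) T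
    have hgt : g * F.t * g⁻¹ ∈ Hs := hnormal.conj_mem _ htO g
    have h2 := hw ⟨g * F.t * g⁻¹, hgt⟩ ⟨F.t, Subgroup.mem_zpowers _, rfl⟩
    have e := eq_of_isolated htR hiso.2 (T.isPGroup'.map Hs.subtype) ⟨_, htT, rfl⟩
      (g := (w : G) * g) ⟨_, h2, by simp [mul_assoc]⟩
    obtain ⟨o, ho, v, hv, hwov⟩ := Subgroup.mem_sup_of_normal_left.1 w.2
    obtain ⟨l, rfl⟩ := Subgroup.mem_zpowers_iff.1 hv
    refine ⟨(F.t ^ l)⁻¹ * o⁻¹ * F.t ^ l, ?_, (F.t ^ l)⁻¹ * ((w : G) * g), ?_, by rw [← hwov]; group⟩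
    · simpa using hOn.conj_mem _ (inv_mem ho) (F.t ^ l)⁻¹
    · have h1 : Commute ((w : G) * g) F.t := mul_inv_eq_iff_eq_mul.1 e
      exact (Commute.mul_left ((Commute.zpow_self F.t l).inv_left) h1).eq
  let C := Subgroup.centralizer ({F.t} : Set G)
  have hdec : ∀ c : ↥C, ∃ kq : ↥F.K × ↥(PG n), (c : G) = kq.1 * F.ι kq.2 := fun c => by
    obtain ⟨k, hk, q, e⟩ := F.dec c fun h => by
      rw [← F.t_eq h]; exact Subgroup.mem_centralizer_singleton_iff.1 c.2
    exact ⟨(⟨k, hk⟩, q), e⟩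
  choose kq hkq using hdec
  have huniq : ∀ (k k' : ↥F.K) (q q' : ↥(PG n)), (k : G) * F.ι q = k' * F.ι q' → q = q' := fun k k' q q' e => by
    refine (mul_inv_eq_one.1 (F.K_inter (q' * q⁻¹) ?_)).symm
    rw [map_mul, map_inv, show F.ι q' = (k' : G)⁻¹ * (k * F.ι q) by rw [e]; group,
      show (k' : G)⁻¹ * (k * F.ι q) * (F.ι q)⁻¹ = (k' : G)⁻¹ * k by group]
    exact mul_mem (inv_mem k'.2) k.2
  let ρ : ↥C →* ℤˣ := MonoidHom.mk' (fun c => par true (kq c).2) fun c d => by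
    show par true (kq (c * d)).2 = par true (kq c).2 * par true (kq d).2
    rw [← map_mul]
    refine congrArg _ (huniq (kq (c * d)).1
      ⟨(kq c).1 * (F.ι (kq c).2 * (kq d).1 * (F.ι (kq c).2)⁻¹), mul_mem (kq c).1.2 (F.K_norm _ (kq d).1.2 _)⟩ _ _ ?_)
    rw [← hkq, Subgroup.coe_mul, hkq c, hkq d, map_mul]
    group
  set u : G := F.E (fun _ => true) (sb i₀)
  have huC : u ∈ C := Subgroup.mem_centralizer_singleton_iff.2 (F.e_comm_t (emb_mem _ _))
  have hρu : ρ ⟨u, huC⟩ = -1 := by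
    have e0 : u = ((1 : ↥F.K) : G) * F.ι ⟨emb (fun _ => true) (sb i₀), emb_mem _ _⟩ := by
      rw [Subgroup.coe_one, one_mul]; exact F.e_eq _
    show par true (kq ⟨u, huC⟩).2 = -1
    rw [huniq (kq ⟨u, huC⟩).1 1 _ ⟨emb (fun _ => true) (sb i₀), emb_mem _ _⟩ ((hkq ⟨u, huC⟩).symm.trans e0),
      par_emb]
    simp [sb, Pi.single_apply, Finset.prod_ite_eq']
  set H : Subgroup G := O ⊔ ρ.ker.map C.subtype
  have huH : u ∉ H := fun h => by
    obtain ⟨o, ho, _, ⟨c, hc, rfl⟩, e⟩ := Subgroup.mem_sup_of_normal_left.1 h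
    have hoC : o ∈ C := by
      rw [show o = u * ((c : G))⁻¹ from eq_mul_inv_of_mul_eq e]
      exact mul_mem huC (inv_mem c.2)
    have hρo : ρ ⟨o, hoC⟩ = -1 := by
      have e' : (⟨o, hoC⟩ : ↥C) = ⟨u, huC⟩ * c⁻¹ := Subtype.ext (eq_mul_inv_of_mul_eq e)
      rw [e', map_mul, map_inv, MonoidHom.mem_ker.1 hc, inv_one, mul_one, hρu]
    have h2 : orderOf (ρ ⟨o, hoC⟩) ∣ orderOf o := by
      have := orderOf_map_dvd ρ (⟨o, hoC⟩ : ↥C)
      rwa [Subgroup.orderOf_mk] at this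
    have hodd : ¬ 2 ∣ orderOf o := fun h => by
      have h3 := h.trans (Subgroup.orderOf_mk (H := O) o ho ▸ orderOf_dvd_natCard (⟨o, ho⟩ : ↥O))
      exact (Grp.pPrimeCore_not_dvd (p := 2) (G := G)) h3
    rw [hρo, orderOf_units.symm] at h2
    simp at h2
    exact hodd (by simpa using h2)
  have hindex : H.index = 2 := by
    refine Subgroup.index_eq_two_iff.2 ⟨u, fun g => ?_⟩
    obtain ⟨o, ho, c, hc, rfl⟩ := hcover g
    have hcC : c ∈ C := Subgroup.mem_centralizer_singleton_iff.2 hc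
    have hmem : ∀ d : ↥C, ρ d = 1 → o * (d : G) ∈ H := fun d hd =>
      mul_mem (Subgroup.mem_sup_left ho) (Subgroup.mem_sup_right ⟨d, hd, rfl⟩)
    rcases Int.units_eq_one_or (ρ ⟨c, hcC⟩) with e | e
    · refine Or.inr ⟨hmem ⟨c, hcC⟩ e, fun h => huH ?_⟩
      have := mul_mem (inv_mem (hmem ⟨c, hcC⟩ e)) h
      simpa [mul_assoc] using this
    · have h1 := hmem (⟨c, hcC⟩ * ⟨u, huC⟩) (by rw [map_mul, e, hρu]; rfl)
      rw [Subgroup.coe_mul, ← mul_assoc] at h1
      refine Or.inl ⟨h1, fun h => huH ?_⟩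
      have := mul_mem (inv_mem h) h1
      simpa [mul_assoc] using this
  exact F.no_two H (Subgroup.normal_of_index_eq_two hindex) hindex

/-- Both kinds move. -/
theorem moved_all (i₀ : Fin n) : ∀ b, F.Moved b := by
  obtain ⟨χ, x, hx, hc⟩ := F.exists_fused i₀
  obtain ⟨g, hg, hgx⟩ := F.moved_of_conj hc
  obtain ⟨i, hi⟩ := (F.lin χ).exists_single hg (by rw [hgx]; exact hx)
  intro b
  have h1 := F.moved_of_single hi
  rcases eq_or_ne b (χ i) with e | e
  · exact e ▸ h1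
  · rw [Bool.eq_not.2 e]; exact F.moved_not h1 i₀

/-- Every involution is conjugate to an element of the centre of the block group. -/
theorem conj_zel (i₀ : Fin n) {g : G} (hg : orderOf g = 2) :
    ∃ w : Fin n → ZMod 2, w ≠ 0 ∧ IsConj g (F.e (zel w)) := by
  classical
  haveI : Fact (Nat.Prime 2) := ⟨Nat.prime_two⟩
  obtain ⟨a, ha⟩ := F.sylow (Subgroup.zpowers g) (isPGroup_zpowers (n := 1) (by simpa using hg))
  obtain ⟨q, hq, hqe⟩ := (F.mem_im QG_le_PG).1 (ha g (Subgroup.mem_zpowers g))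
  have hgg : g * g = 1 := by rw [← pow_two, ← hg]; exact pow_orderOf_eq_one g
  have hqP := QG_le_PG hq
  have hq2 : q * q = 1 := F.e_inj (mul_mem hqP hqP) (one_mem _) (by
    rw [F.e_mul hqP hqP, hqe, F.e_one, show a * g * a⁻¹ * (a * g * a⁻¹) = a * (g * g) * a⁻¹ by group, hgg]
    group)
  obtain ⟨c, χ, x, -, hcx⟩ := F.exists_choice (q := ⟨q, hqP⟩) hq2
  obtain ⟨m, hm, hmx⟩ := (F.lin χ).reduce Finset.univ
    (fun i _ => F.single_of_moved (F.moved_all i₀ (χ i)) rfl) x
  have hy : (m x).2 = 0 := funext fun i => by simpa using hmx i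
  have hconj : IsConj g (F.E χ (m x)) :=
    IsConj.trans (isConj_iff.2 ⟨c * a, by rw [← hcx]; show _ = c * F.e q * c⁻¹; rw [hqe]; group⟩)
      (F.isConj_of_mem hm x)
  refine ⟨(m x).1, fun e => ?_, ?_⟩
  · rw [show m x = 0 from Prod.ext e hy, E, emb_zero, F.e_one] at hconj
    obtain ⟨b, hb⟩ := isConj_iff.1 hconj
    have : g = 1 := by simpa using hb
    rw [this, orderOf_one] at hg
    omega
  · convert hconj using 2
    rw [E, ← emb_zel χ]
    exact congrArg _ (congrArg _ (Prod.ext rfl hy.symm))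

/-- The number of ones. -/
def wt (w : Fin n → ZMod 2) : ℕ := (Finset.univ.filter fun i => w i = 1).card

include F in
/-- There are exactly `n` classes of involutions. -/
theorem card_classes (hn : 1 ≤ n) :
    Nat.card {c : ConjClasses G // ∃ x ∈ c.carrier, orderOf x = 2} = n := by
  classical
  let std : Fin n → Fin n → ZMod 2 := fun k i => if i ≤ k then 1 else 0
  have hwt : ∀ k, wt (std k) = (k : ℕ) + 1 := fun k => by
    rw [wt, show (Finset.univ.filter fun i => std k i = 1) = Finset.Iic k by ext i; simp [std], Fin.card_Iic]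
  have hne : ∀ w : Fin n → ZMod 2, w ≠ 0 → orderOf (F.e (zel w)) = 2 := fun w hw => by
    have hsq : F.E (fun _ => true) (w, 0) = F.e (zel w) := by rw [E, emb_zel]
    rw [← hsq]
    refine orderOf_eq_prime ?_ fun e => hw ?_
    · rw [pow_two, ← F.E_add, vadd_self, E, emb_zero, F.e_one]
    · exact congrArg Prod.fst (F.E_inj _ (a₂ := 0) (e.trans (by rw [E, emb_zero, F.e_one])))
  have hstd : ∀ k, std k ≠ 0 := fun k e => by simpa [std] using congrFun e k
  let f : Fin n → {c : ConjClasses G // ∃ x ∈ c.carrier, orderOf x = 2} := fun k =>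
    ⟨ConjClasses.mk (F.e (zel (std k))), _, ConjClasses.mem_carrier_mk, hne _ (hstd k)⟩
  have hf : Function.Bijective f := by
    refine ⟨fun k k' e => ?_, fun ⟨c, x, hxc, hx⟩ => ?_⟩
    · obtain ⟨π, hπ⟩ := F.zel_control (ConjClasses.mk_eq_mk_iff_isConj.1 (congrArg Subtype.val e))
      have h1 : wt (std k') = wt (std k) := by
        rw [hπ, wt, wt]
        refine Finset.card_equiv π⁻¹ fun i => ?_
        simp
      rw [hwt, hwt] at h1
      exact Fin.ext (by omega)
    · obtain ⟨w, hw, hwx⟩ := F.conj_zel ⟨0, hn⟩ hx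
      have h1 : 1 ≤ wt w := Finset.card_pos.2 (by
        obtain ⟨i, hi⟩ := Function.ne_iff.1 hw
        exact ⟨i, by simpa using (zmod_two_cases (w i)).resolve_left hi⟩)
      have h2 : wt w ≤ n := (Finset.card_le_univ _).trans (by simp)
      let k : Fin n := ⟨wt w - 1, by omega⟩
      have hcard : (Finset.univ.filter fun i => w i = 1).card = (Finset.univ.filter fun i => std k i = 1).card := by
        show wt w = wt (std k)
        rw [hwt]; show wt w = wt w - 1 + 1; omega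
      let e₁ := Finset.equivOfCardEq hcard
      let π : Perm (Fin n) := Equiv.extendSubtype
        (p := fun i => i ∈ Finset.univ.filter fun i => w i = 1)
        (q := fun i => i ∈ Finset.univ.filter fun i => std k i = 1) e₁
      have hπ : ∀ i, std k (π i) = w i := fun i => by
        rcases zmod_two_cases (w i) with e | e
        · have h : π i ∉ Finset.univ.filter fun i => std k i = 1 :=
            Equiv.extendSubtype_not_mem e₁ i (by simp [e])
          rw [e]
          exact (zmod_two_cases _).resolve_right fun h' => h (by simp [h'])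
        · have h : π i ∈ Finset.univ.filter fun i => std k i = 1 :=
            Equiv.extendSubtype_mem e₁ i (by simp [e])
          rw [e]; simpa using h
      refine ⟨k, Subtype.ext ?_⟩
      show ConjClasses.mk (F.e (zel (std k))) = c
      rw [← ConjClasses.mem_carrier_iff_mk_eq.1 hxc]
      refine ConjClasses.mk_eq_mk_iff_isConj.2 (IsConj.trans ?_ hwx.symm)
      refine isConj_iff.2 ⟨(F.e (bp n π))⁻¹, ?_⟩
      have e0 : bp n π * zel w * (bp n π)⁻¹ = zel (std k) := by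
        rw [← emb_zel (fun _ => true), bp_emb]
        have : w ∘ ⇑π⁻¹ = std k := funext fun i => by
          show w (π⁻¹ i) = _
          rw [← hπ]; simp
        rw [this]
        exact emb_zel _ _
      rw [← e0, F.e_conj (bp_mem_PG π) (JG_le_PG (zel_mem w))]
      group
  rw [← Nat.card_congr (Equiv.ofBijective f hf), Nat.card_fin]

end Frame

end Cfsg.Agent.Invol.Kondo
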