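import Cfsg.Agent.Lib.Invol.KondoClasses.Rank

/-!
# Two parities and the involutions of the model (for S3191)
-/

set_option autoImplicit false

namespace Cfsg.Agent.Invol.Kondo

open Equiv

variable {n : ℕ}

/-- The pairs. -/
abbrev Y (n : ℕ) := Fin n × Fin 2

theorem beta_apply (x : X n) : beta n x = (x.1, (x.2.1, x.2.2 + 1)) := rfl

theorem beta_beta (x : X n) : beta n (beta n x) = x := by
  obtain ⟨i, a, b⟩ := x
  rw [beta_apply, beta_apply]
  revert b
  simp [Fin.forall_fin_two]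

theorem PG_beta {p : Perm (X n)} (hp : p ∈ PG n) (x : X n) : p (beta n x) = beta n (p x) :=
  congrArg (fun q : Perm (X n) => q x) (mem_PG.1 hp)

/-- The pair of a letter. -/
def pr (x : X n) : Y n := (x.1, x.2.1)

theorem PG_pr {p : Perm (X n)} (hp : p ∈ PG n) {x y : X n} (h : pr x = pr y) : pr (p x) = pr (p y) := by
  obtain ⟨i, a, b⟩ := x
  obtain ⟨j, c, d⟩ := y
  obtain ⟨rfl, rfl⟩ : i = j ∧ a = c := Prod.ext_iff.1 h
  have hbd : d = b ∨ d = b + 1 := (by decide : ∀ u v : Fin 2, v = u ∨ v = u + 1) b d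
  rcases hbd with rfl | rfl
  · rfl
  · rw [show ((i, (a, b + 1)) : X n) = beta n (i, (a, b)) from rfl, PG_beta hp]
    rfl

/-- The permutation of the pairs. -/
def pperm (p : ↥(PG n)) : Perm (Y n) where
  toFun y := pr ((p : Perm (X n)) (y.1, (y.2, 0)))
  invFun y := pr ((p : Perm (X n))⁻¹ (y.1, (y.2, 0)))
  left_inv y := by
    show pr ((p : Perm (X n))⁻¹ ((pr ((p : Perm (X n)) (y.1, (y.2, 0)))).1, ((pr _).2, 0))) = y
    exact (PG_pr (inv_mem p.2) (x := ((pr ((p : Perm (X n)) (y.1, (y.2, 0)))).1, ((pr ((p : Perm (X n)) (y.1, (y.2, 0)))).2, 0)))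
      (y := (p : Perm (X n)) (y.1, (y.2, 0))) rfl).trans
      (show pr ((p : Perm (X n))⁻¹ ((p : Perm (X n)) (y.1, (y.2, 0)))) = y by simp [pr])
  right_inv y := by
    show pr ((p : Perm (X n)) ((pr ((p : Perm (X n))⁻¹ (y.1, (y.2, 0)))).1, ((pr _).2, 0))) = y
    exact (PG_pr p.2 (x := ((pr ((p : Perm (X n))⁻¹ (y.1, (y.2, 0)))).1, ((pr ((p : Perm (X n))⁻¹ (y.1, (y.2, 0)))).2, 0)))
      (y := (p : Perm (X n))⁻¹ (y.1, (y.2, 0))) rfl).trans
      (show pr ((p : Perm (X n)) ((p : Perm (X n))⁻¹ (y.1, (y.2, 0)))) = y by simp [pr])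

theorem pperm_apply (p : ↥(PG n)) (x : X n) : pperm p (pr x) = pr ((p : Perm (X n)) x) := PG_pr p.2 rfl

/-- The two parities. -/
def par : Bool → ↥(PG n) →* ℤˣ
  | true => Perm.sign.comp (PG n).subtype
  | false => Perm.sign.comp (MonoidHom.mk' pperm fun p q => Equiv.ext fun y =>
      ((pperm_apply p _).symm : pr (((p : Perm (X n)) * q) (y.1, (y.2, 0))) = _))

/-- The pairs of one block. -/
def pairB (g : Perm B) (hg : InD g) : Perm (Fin 2) where
  toFun a := (g (a, 0)).1
  invFun a := (g⁻¹ (a, 0)).1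
  left_inv := by revert g; decide +kernel
  right_inv := by revert g; decide +kernel

theorem sign_pairB : ∀ b p q h, Perm.sign (pairB (elt b p q) h) = if b = false ∧ q = 1 then -1 else 1 := by
  decide +kernel

theorem par_emb (b : Bool) (χ : Fin n → Bool) (x : V n) (h : emb χ x ∈ PG n) :
    par b ⟨emb χ x, h⟩ = ∏ i, if χ i = b ∧ x.2 i = 1 then -1 else 1 := by
  cases b
  · show Perm.sign (pperm ⟨emb χ x, h⟩) = _
    rw [show pperm ⟨emb χ x, h⟩ = Equiv.prodCongrRight fun i => pairB (elt (χ i) (x.1 i) (x.2 i)) (elt_inD _ _ _) from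
      Equiv.ext fun y => rfl, Perm.sign_prodCongrRight]
    exact Finset.prod_congr rfl fun i _ => sign_pairB _ _ _ _
  · show Perm.sign (Equiv.prodCongrRight fun i => elt (χ i) (x.1 i) (x.2 i)) = _
    rw [Perm.sign_prodCongrRight]
    exact Finset.prod_congr rfl fun i _ => sign_elt _ _ _

theorem cycleType_invol {α : Type*} [Fintype α] [DecidableEq α] {σ : Perm α} (h : σ * σ = 1) :
    σ.cycleType = Multiset.replicate (σ.support.card / 2) 2 := by
  have hall : ∀ m ∈ σ.cycleType, m = 2 := fun m hm => by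
    have h1 := Perm.two_le_of_mem_cycleType hm
    have h2 : orderOf σ ∣ 2 := orderOf_dvd_of_pow_eq_one (by rw [pow_two]; exact h)
    have h3 := Nat.le_of_dvd (by norm_num) ((Perm.dvd_of_mem_cycleType hm).trans h2)
    omega
  have e := Multiset.eq_replicate_of_mem hall
  have hs := σ.sum_cycleType
  rw [e, Multiset.sum_replicate, smul_eq_mul] at hs
  rw [← hs, Nat.mul_div_cancel _ (by norm_num : 0 < 2)]
  exact e

/-- A permutation of the pairs as an element of the model. -/
def liftY (θ : Perm (Y n)) : Perm (X n) where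
  toFun x := ((θ (x.1, x.2.1)).1, ((θ (x.1, x.2.1)).2, x.2.2))
  invFun x := ((θ⁻¹ (x.1, x.2.1)).1, ((θ⁻¹ (x.1, x.2.1)).2, x.2.2))
  left_inv x := by simp
  right_inv x := by simp

theorem liftY_mem (θ : Perm (Y n)) : liftY θ ∈ PG n := mem_PG.2 (Equiv.ext fun _ => rfl)

/-- Every involution of the model is conjugate into one of the choices. -/
theorem exists_conj_emb {q : Perm (X n)} (hq : q ∈ PG n) (hq2 : q * q = 1) :
    ∃ h ∈ PG n, ∃ χ x, h * q * h⁻¹ = emb χ x := by
  classical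
  set σ := pperm ⟨q, hq⟩ with hσdef
  have hσ : σ * σ = 1 := Equiv.ext fun y => by
    show σ (pr (q (y.1, (y.2, 0)))) = y
    rw [hσdef, pperm_apply]
    show pr ((q * q) (y.1, (y.2, 0))) = y
    rw [hq2]; rfl
  set k := σ.support.card / 2
  have hk : k ≤ n := by
    have := σ.support.card_le_univ
    rw [Fintype.card_prod, Fintype.card_fin, Fintype.card_fin] at this
    omega
  let τ : Perm (Y n) := Equiv.prodCongrRight fun i => if (i : ℕ) < k then Equiv.swap 0 1 else 1
  have hsupp : τ.support = (Finset.univ.filter fun i : Fin n => (i : ℕ) < k) ×ˢ Finset.univ := by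
    ext ⟨i, a⟩
    simp only [Perm.mem_support, Finset.mem_product, Finset.mem_filter, Finset.mem_univ, true_and, and_true]
    by_cases hi : (i : ℕ) < k
    · simp [τ, hi]
      revert a; decide
    · simp [τ, hi]
  have hτ2 : τ * τ = 1 := by
    refine Equiv.ext fun ⟨i, a⟩ => ?_
    show (i, (if (i : ℕ) < k then Equiv.swap (0 : Fin 2) 1 else 1) ((if (i : ℕ) < k then Equiv.swap (0 : Fin 2) 1 else 1) a)) = (i, a)
    split_ifs <;> simp
  have hcard : τ.support.card = k * 2 := by
    rw [hsupp, Finset.card_product, Finset.card_univ, Fintype.card_fin]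
    congr 1
    rw [Fin.card_filter_val_lt, min_eq_right hk]
  obtain ⟨θ, hθ⟩ := isConj_iff.1 (Perm.isConj_iff_cycleType_eq.2 (show σ.cycleType = τ.cycleType by
    rw [cycleType_invol hσ, cycleType_invol hτ2, hcard, Nat.mul_div_cancel _ (by norm_num : 0 < 2)]))
  set h := liftY θ
  set q' := h * q * h⁻¹ with hq'
  have hq'P : q' ∈ PG n := mul_mem (mul_mem (liftY_mem θ) hq) (inv_mem (liftY_mem θ))
  obtain ⟨g, hg, hgq⟩ := mem_PG_fst hq'P fun x => by
    show (pr (q' x)).1 = (pr x).1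
    have e : pr (q' x) = (θ * σ * θ⁻¹) (pr x) := by
      rw [hq', Perm.mul_apply, Perm.mul_apply, Perm.mul_apply, Perm.mul_apply,
        show θ⁻¹ (pr x) = pr (h⁻¹ x) from rfl, hσdef, pperm_apply]
      rfl
    rw [e, hθ]; rfl
  have hg2 : ∀ i, g i * g i = 1 := by
    have e : bm n (g * g) = bm n 1 := by
      rw [map_mul, map_one, hgq, hq',
        show h * q * h⁻¹ * (h * q * h⁻¹) = h * (q * q) * h⁻¹ by group, hq2]
      group
    exact fun i => congrFun (mk_inj e) i
  choose χ p r hc using fun i => invol_cases (g i) (hg i) (hg2 i)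
  exact ⟨h, liftY_mem θ, χ, (p, r), hgq.symm.trans (congrArg _ (funext hc))⟩

end Cfsg.Agent.Invol.Kondo
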