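import Mathlib
import Cfsg.Agent.Lib.Invol.Sylow

/-!
# A linear group whose 2-subgroups have few transvections (for S3191)

On `V = Z ⊕ S`, both with basis indexed by the blocks, `v i` is the shear of block `i`.
If every 2-subgroup is conjugate into a group of block permutations times shears, then the supports
of the centres of the conjugates of the shears have at most two elements, and a single block
occurs as soon as the sum of all `zb i` is moved.
-/

set_option autoImplicit false

namespace Cfsg.Agent.Invol.Kondo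

open Equiv

/-- The space: `(z-part, s-part)`. -/
abbrev V (n : ℕ) := (Fin n → ZMod 2) × (Fin n → ZMod 2)

variable {n : ℕ}

theorem zmod_two_cases : ∀ a : ZMod 2, a = 0 ∨ a = 1 := by decide

theorem vadd_self (x : V n) : x + x = 0 :=
  Prod.ext (funext fun _ => CharTwo.add_self_eq_zero _) (funext fun _ => CharTwo.add_self_eq_zero _)

theorem vadd_cancel (x c : V n) : x + c + c = x := by rw [add_assoc, vadd_self, add_zero]

/-- The basis of the `z`-part. -/
def zb (i : Fin n) : V n := (Pi.single i 1, 0)

/-- The basis of the `s`-part. -/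
def sb (i : Fin n) : V n := (0, Pi.single i 1)

/-- The sum of all `zb i`. -/
def tt : V n := (1, 0)

theorem zb_inj {i j : Fin n} (h : zb i = zb j) : i = j := by
  by_contra hne
  have h1 := congrFun (congrArg Prod.fst h) i
  simp [zb, Pi.single_eq_of_ne hne] at h1

theorem zb_ne_zero (i : Fin n) : zb i ≠ 0 := fun h => by
  have h1 := congrFun (congrArg Prod.fst h) i
  simp [zb] at h1

theorem sum_zb : ∑ i, zb i = (tt : V n) := by
  ext k
  · simp [zb, tt, Prod.fst_sum, Finset.sum_apply, Pi.single_apply]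
  · simp [zb, tt, Prod.snd_sum]

/-- The shear by `ε`. -/
def shear (ε : Fin n → ZMod 2) : Perm (V n) where
  toFun x := (x.1 + ε * x.2, x.2)
  invFun x := (x.1 + ε * x.2, x.2)
  left_inv x := Prod.ext (funext fun k => by simp [add_assoc, CharTwo.add_self_eq_zero]) rfl
  right_inv x := Prod.ext (funext fun k => by simp [add_assoc, CharTwo.add_self_eq_zero]) rfl

theorem shear_apply (ε : Fin n → ZMod 2) (x : V n) : shear ε x = (x.1 + ε * x.2, x.2) := rfl

theorem shear_inv (ε : Fin n → ZMod 2) : (shear ε)⁻¹ = shear ε := rfl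

theorem shear_self (ε : Fin n → ZMod 2) (x : V n) : shear ε (shear ε x) = x := (shear ε).left_inv x

theorem shear_add (ε δ : Fin n → ZMod 2) : shear (ε + δ) = shear ε * shear δ :=
  Equiv.ext fun x => Prod.ext (by simp only [Perm.mul_apply, shear_apply]; ring) rfl

theorem shear_zero : shear (0 : Fin n → ZMod 2) = 1 := Equiv.ext fun x => by simp [shear_apply]

/-- The shear of one block. -/
def v (i : Fin n) : Perm (V n) := shear (Pi.single i 1)

theorem v_apply (i : Fin n) (x : V n) : v i x = x + x.2 i • zb i := by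
  ext k
  · rcases eq_or_ne k i with rfl | h
    · simp [v, shear_apply, zb]
    · simp [v, shear_apply, zb, Pi.single_eq_of_ne h]
  · simp [v, shear_apply, zb]

/-- `d` is the transvection with centre `c`. -/
def Trans (d : Perm (V n)) (c : V n) : Prop :=
  c ≠ 0 ∧ (∃ x, d x ≠ x) ∧ ∀ x, d x = x ∨ d x = x + c

theorem Trans.centre_unique {d : Perm (V n)} {c c' : V n} (h : Trans d c) (h' : Trans d c') : c = c' := by
  obtain ⟨-, ⟨x, hx⟩, hc⟩ := h
  exact add_left_cancel (((hc x).resolve_left hx).symm.trans ((h'.2.2 x).resolve_left hx))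

theorem Trans.move {d : Perm (V n)} {c : V n} (h : Trans d c) {x : V n} (hx : d x ≠ x) : d x = x + c :=
  (h.2.2 x).resolve_left hx

theorem v_trans (i : Fin n) : Trans (v i) (zb i) := by
  refine ⟨zb_ne_zero i, ⟨sb i, fun h => ?_⟩, fun x => ?_⟩
  · rw [v_apply] at h
    simp [sb, zb_ne_zero] at h
  · rw [v_apply]
    rcases zmod_two_cases (x.2 i) with e | e <;> simp [e]

/-- The setting. -/
structure Lin (n : ℕ) where
  L : Subgroup (Perm (V n))
  add : ∀ g ∈ L, ∀ x y, g (x + y) = g x + g y
  v_mem : ∀ i, v i ∈ L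
  Q : Set (Perm (V n))
  form : ∀ g ∈ Q, ∃ (π : Perm (Fin n)) (ε : Fin n → ZMod 2),
    ∀ i, g (zb i) = zb (π i) ∧ g (sb i) = sb (π i) + ε i • zb (π i)
  conjQ : ∀ P : Subgroup (Perm (V n)), P ≤ L → IsPGroup 2 P → ∃ k ∈ L, ∀ p ∈ P, k * p * k⁻¹ ∈ Q

namespace Lin

variable (S : Lin n)

theorem map_zero {g : Perm (V n)} (hg : g ∈ S.L) : g 0 = 0 := by
  have h := S.add g hg 0 0
  rw [add_zero] at h
  exact left_eq_add.1 h

theorem map_sum {g : Perm (V n)} (hg : g ∈ S.L) {ι : Type*} (f : ι → V n) (s : Finset ι) :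
    g (∑ i ∈ s, f i) = ∑ i ∈ s, g (f i) :=
  _root_.map_sum (AddMonoidHom.mk' (fun x => g x) (S.add g hg)) f s

theorem smul_map {g : Perm (V n)} (hg : g ∈ S.L) (a : ZMod 2) (x : V n) : g (a • x) = a • g x := by
  rcases zmod_two_cases a with rfl | rfl
  · rw [zero_smul, zero_smul, S.map_zero hg]
  · rw [one_smul, one_smul]

theorem decomp (x : V n) : x = ∑ i, (x.1 i • zb i + x.2 i • sb i) := by
  ext k <;> simp [zb, sb, Prod.fst_sum, Prod.snd_sum, Finset.sum_apply, Pi.single_apply]

theorem ext_basis {g h : Perm (V n)} (hg : g ∈ S.L) (hh : h ∈ S.L) (hz : ∀ i, g (zb i) = h (zb i))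
    (hs : ∀ i, g (sb i) = h (sb i)) : g = h := by
  ext1 x
  rw [decomp x, S.map_sum hg, S.map_sum hh]
  exact Finset.sum_congr rfl fun i _ => by
    rw [S.add g hg, S.add h hh, S.smul_map hg, S.smul_map hg, S.smul_map hh, S.smul_map hh, hz, hs]

theorem shear_mem (ε : Fin n → ZMod 2) : shear ε ∈ S.L := by
  classical
  have h : ∀ s : Finset (Fin n), ∀ δ : Fin n → ZMod 2, (∀ i ∉ s, δ i = 0) → shear δ ∈ S.L := by
    intro s
    induction s using Finset.induction with
    | empty =>
      intro δ hδ
      rw [show δ = 0 from funext fun i => hδ i (by simp), shear_zero]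
      exact one_mem _
    | insert a s ha ih =>
      intro δ hδ
      rw [show δ = Pi.single a (δ a) + Function.update δ a 0 from funext fun i => by
        rcases eq_or_ne i a with rfl | h <;> simp [*], shear_add]
      refine mul_mem ?_ (ih _ fun i hi => ?_)
      · rcases zmod_two_cases (δ a) with e | e
        · rw [e, Pi.single_zero, shear_zero]; exact one_mem _
        · rw [e]; exact S.v_mem a
      · rcases eq_or_ne i a with rfl | h
        · simp
        · simpa [h] using hδ i (by simp [h, hi])
  exact h Finset.univ ε (by simp)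

/-- A transvection of `Q` is a shear of one block. -/
theorem trans_of_Q {g : Perm (V n)} (hgL : g ∈ S.L) (hgQ : g ∈ S.Q) {c : V n} (hc : Trans g c) :
    ∃ i, g = v i := by
  obtain ⟨π, ε, h⟩ := S.form g hgQ
  have hπ : ∀ i, π i = i := by
    intro i
    by_contra hne
    have hz : g (zb i) ≠ zb i := fun e => hne (zb_inj ((h i).1.symm.trans e))
    have hs : g (sb i) ≠ sb i := fun e => by
      have e1 := congrFun (congrArg Prod.snd e) i
      rw [(h i).2] at e1
      simp [sb, zb, Pi.single_eq_of_ne' hne] at e1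
    have e1 := congrFun (congrArg Prod.snd (hc.move hz)) i
    have e2 := congrFun (congrArg Prod.snd (hc.move hs)) i
    rw [(h i).1] at e1
    rw [(h i).2] at e2
    simp [sb, zb, Pi.single_eq_of_ne' hne] at e1 e2
    rw [← e1] at e2
    simp at e2
  have hz : ∀ i, g (zb i) = zb i := fun i => by rw [(h i).1, hπ i]
  have hs : ∀ i, g (sb i) = sb i + ε i • zb i := fun i => by rw [(h i).2, hπ i]
  by_cases h0 : ∀ i, ε i = 0
  · exfalso
    obtain ⟨x, hx⟩ := hc.2.1
    exact hx (by rw [S.ext_basis hgL (one_mem _) hz (fun i => by simp [hs, h0])]; rfl)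
  push Not at h0
  obtain ⟨a, ha⟩ := h0
  have hce : ∀ i, ε i ≠ 0 → c = zb i := by
    intro i hi
    have hne : g (sb i) ≠ sb i := by
      rw [hs, (zmod_two_cases (ε i)).resolve_left hi, one_smul]
      exact fun e => zb_ne_zero i (add_eq_left.1 e)
    have e := hc.move hne
    rw [hs, (zmod_two_cases (ε i)).resolve_left hi, one_smul] at e
    exact (add_left_cancel e).symm
  refine ⟨a, S.ext_basis hgL (S.v_mem a) (fun i => ?_) (fun i => ?_)⟩
  · rw [hz, v_apply]; simp [zb]
  · rw [hs, v_apply]
    rcases eq_or_ne i a with rfl | hne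
    · simp [sb, (zmod_two_cases (ε i)).resolve_left ha]
    · have hi : ε i = 0 := by
        by_contra hi
        exact hne (zb_inj ((hce i hi).symm.trans (hce a ha)))
      simp [sb, hi, Pi.single_eq_of_ne' hne]

/-- The conjugates of the shears. -/
def D (d : Perm (V n)) (c : V n) : Prop :=
  ∃ g ∈ S.L, ∃ i, d = g * v i * g⁻¹ ∧ c = g (zb i)

theorem D.v_self (i : Fin n) : S.D (v i) (zb i) := ⟨1, one_mem _, i, by simp, rfl⟩

variable {S}

theorem D.conj {d : Perm (V n)} {c : V n} (h : S.D d c) {g : Perm (V n)} (hg : g ∈ S.L) :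
    S.D (g * d * g⁻¹) (g c) := by
  obtain ⟨k, hk, i, rfl, rfl⟩ := h
  exact ⟨g * k, mul_mem hg hk, i, by group, rfl⟩

theorem D.mem {d : Perm (V n)} {c : V n} (h : S.D d c) : d ∈ S.L := by
  obtain ⟨k, hk, i, rfl, -⟩ := h
  exact mul_mem (mul_mem hk (S.v_mem i)) (inv_mem hk)

theorem D.invol {d : Perm (V n)} {c : V n} (h : S.D d c) : d * d = 1 := by
  obtain ⟨k, hk, i, rfl, -⟩ := h
  have : v i * v i = 1 := Equiv.ext (shear_self _)
  calc k * v i * k⁻¹ * (k * v i * k⁻¹) = k * (v i * v i) * k⁻¹ := by group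
    _ = 1 := by rw [this]; group

theorem D.trans {d : Perm (V n)} {c : V n} (h : S.D d c) : Trans d c := by
  obtain ⟨k, hk, i, rfl, rfl⟩ := h
  have hkk : ∀ x, k (k⁻¹ x) = x := fun x => k.apply_symm_apply x
  refine ⟨fun e => zb_ne_zero i (k.injective (e.trans (S.map_zero hk).symm)), ?_, fun x => ?_⟩
  · obtain ⟨x, hx⟩ := (v_trans i).2.1
    refine ⟨k x, fun e => hx (k.injective ?_)⟩
    rwa [Perm.mul_apply, Perm.mul_apply, show k⁻¹ (k x) = x from k.symm_apply_apply x] at e
  · rw [Perm.mul_apply, Perm.mul_apply]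
    rcases (v_trans i).2.2 (k⁻¹ x) with e | e
    · left; rw [e, hkk]
    · right; rw [e, S.add k hk, hkk]

theorem D.centre_unique {d : Perm (V n)} {c c' : V n} (h : S.D d c) (h' : S.D d c') : c = c' :=
  h.trans.centre_unique h'.trans

theorem D.fix_centre {d : Perm (V n)} {c : V n} (h : S.D d c) : d c = c := by
  obtain ⟨x, hx⟩ := h.trans.2.1
  have e := h.trans.move hx
  have hdd : d (d x) = x := congrArg (fun p : Perm (V n) => p x) h.invol
  rw [e, S.add d h.mem, e] at hdd
  refine add_left_cancel (a := x + c) ?_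
  rw [hdd, vadd_cancel]

/-- The coefficient: `d x = x + φ x • c`. -/
theorem D.exists_phi {d : Perm (V n)} {c : V n} (h : S.D d c) :
    ∃ φ : V n → ZMod 2, (∀ x, d x = x + φ x • c) ∧ (∀ x y, φ (x + y) = φ x + φ y) ∧ φ c = 0 := by
  classical
  obtain ⟨φ, hφ⟩ : ∃ φ : V n → ZMod 2, ∀ x, d x = x + φ x • c :=
    ⟨fun x => if d x = x then 0 else 1, fun x => by
      by_cases e : d x = x
      · simp [e]
      · simp [e, h.trans.move e]⟩
  have hinj : ∀ a b : ZMod 2, a • c = b • c → a = b := by
    intro a b e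
    rcases zmod_two_cases a with rfl | rfl <;> rcases zmod_two_cases b with rfl | rfl
    · rfl
    · exact absurd (by simpa using e.symm) h.trans.1
    · exact absurd (by simpa using e) h.trans.1
    · rfl
  refine ⟨φ, hφ, fun x y => hinj _ _ ?_, hinj _ 0 ?_⟩
  · have e := S.add d h.mem x y
    rw [hφ, hφ x, hφ y, add_add_add_comm] at e
    rw [add_smul]; exact add_left_cancel e
  · have e := h.fix_centre
    rw [hφ] at e
    rw [zero_smul]; exact add_eq_left.1 e

theorem D.commute {d d' : Perm (V n)} {c c' : V n} (h : S.D d c) (h' : S.D d' c') (e : d c' = c')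
    (e' : d' c = c) : d * d' = d' * d := by
  obtain ⟨φ, hφ, -, -⟩ := h.exists_phi
  obtain ⟨ψ, hψ, -, -⟩ := h'.exists_phi
  ext1 x
  simp only [Perm.mul_apply]
  rw [hψ x, S.add d h.mem, S.smul_map h.mem, e, hφ x, S.add d' h'.mem, S.smul_map h'.mem, e', hψ x]
  exact add_right_comm _ _ _

variable (S)

/-- Conjugates of the shears in a 2-group become shears after one conjugation. -/
theorem two_group_D {P : Subgroup (Perm (V n))} (hP : P ≤ S.L) (h2 : IsPGroup 2 P) :
    ∃ k ∈ S.L, ∀ d c, d ∈ P → S.D d c → ∃ i, k * d * k⁻¹ = v i := by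
  obtain ⟨k, hk, hkQ⟩ := S.conjQ P hP h2
  exact ⟨k, hk, fun d c hd h =>
    S.trans_of_Q (mul_mem (mul_mem hk (hP hd)) (inv_mem hk)) (hkQ d hd) (h.conj hk).trans⟩

theorem v_comm (i j : Fin n) : v i * v j = v j * v i := by
  rw [v, v, ← shear_add, add_comm, shear_add]

/-- Two conjugates of shears generating a 2-group commute. -/
theorem commute_of_two {d d' : Perm (V n)} {c c' : V n} (h : S.D d c) (h' : S.D d' c')
    (h4 : (d * d') * (d * d') * ((d * d') * (d * d')) = 1) : d * d' = d' * d := by
  classical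
  haveI : Fact (Nat.Prime 2) := ⟨Nat.prime_two⟩
  have hne : ∀ {d : Perm (V n)} {c : V n}, S.D d c → d ≠ 1 := fun {d c} h e => by
    obtain ⟨x, hx⟩ := h.trans.2.1
    exact hx (by rw [e]; rfl)
  have hord : ∀ {d : Perm (V n)} {c : V n}, S.D d c → orderOf d = 2 := fun {d c} h =>
    orderOf_eq_prime (by rw [pow_two]; exact h.invol) (hne h)
  have h4' : (d * d') ^ (2 ^ 2) = 1 := by
    rw [show (2 : ℕ) ^ 2 = 2 + 2 by norm_num, pow_add, pow_two]; exact h4
  obtain ⟨a, -, ha⟩ := (Nat.dvd_prime_pow Nat.prime_two).1 (orderOf_dvd_of_pow_eq_one h4')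
  obtain ⟨k, -, hkv⟩ := S.two_group_D ((Subgroup.closure_le _).2 (by
      rintro x (rfl | rfl)
      · exact h.mem
      · exact h'.mem)) (Invol.isPGroup_closure_pair (hord h) (hord h') ha)
  obtain ⟨i, hi⟩ := hkv d c (Subgroup.subset_closure (Or.inl rfl)) h
  obtain ⟨j, hj⟩ := hkv d' c' (Subgroup.subset_closure (Or.inr rfl)) h'
  have e := v_comm i j
  rw [← hi, ← hj] at e
  refine mul_left_cancel (a := k) (mul_right_cancel (b := k⁻¹) ?_)
  calc k * (d * d') * k⁻¹ = k * d * k⁻¹ * (k * d' * k⁻¹) := by group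
    _ = _ := e
    _ = _ := by group

/-- At most `n` conjugates of shears commute pairwise. -/
theorem card_commuting {ι : Type} [Fintype ι] (f : ι → Perm (V n)) (g : ι → V n) (hD : ∀ a, S.D (f a) (g a))
    (hg : Function.Injective g) (hc : ∀ a b, f a * f b = f b * f a) : Fintype.card ι ≤ n := by
  classical
  haveI : Fact (Nat.Prime 2) := ⟨Nat.prime_two⟩
  have hP : IsPGroup 2 ↥(Subgroup.closure (Set.range f)) := by
    rintro ⟨x, hx⟩
    refine ⟨1, Subtype.ext ?_⟩
    haveI := Subgroup.isMulCommutative_closure (k := Set.range f) (by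
      rintro _ ⟨a, rfl⟩ _ ⟨b, rfl⟩; exact hc a b)
    show x ^ 2 ^ 1 = 1
    induction hx using Subgroup.closure_induction with
    | mem y hy => obtain ⟨a, rfl⟩ := hy; rw [pow_one, pow_two]; exact (hD a).invol
    | one => exact one_pow _
    | mul y z hy hz iy iz =>
      have hyz : Commute y z := setLike_mul_comm hy hz
      rw [hyz.mul_pow, iy, iz, one_mul]
    | inv y _ iy => rw [inv_pow, iy, inv_one]
  obtain ⟨k, -, hkv⟩ := S.two_group_D ((Subgroup.closure_le _).2 (by
    rintro _ ⟨a, rfl⟩; exact (hD a).mem)) hP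
  choose σ hσ using fun a => hkv (f a) (g a) (Subgroup.subset_closure ⟨a, rfl⟩) (hD a)
  have hinj : Function.Injective σ := fun a b e => hg ((hD a).centre_unique (by
    have hab : k * f a * k⁻¹ = k * f b * k⁻¹ := by rw [hσ, hσ, e]
    rw [mul_left_cancel (mul_right_cancel hab)]; exact hD b))
  simpa using Fintype.card_le_of_injective σ hinj

variable {S}

/-- `d` moves `zb i` exactly when `i` is in the support of its centre. -/
theorem D.moves_zb {d : Perm (V n)} {c : V n} (h : S.D d c) (i : Fin n) :
    d (zb i) = zb i + c.2 i • c := by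
  obtain ⟨φ, hφ, hadd, hφc⟩ := h.exists_phi
  rw [hφ]
  have hz : φ (zb i) = c.2 i := by
    by_contra hne
    have hvz : v i (zb i) = zb i := by rw [v_apply]; simp [zb]
    have hv : ∀ x, v i x = x + x.2 i • zb i := v_apply i
    -- the conjugate of `d` by `v i` commutes with `d`
    have h' : S.D (v i * d * (v i)⁻¹) (v i c) := h.conj (S.v_mem i)
    have hvi : (v i)⁻¹ = v i := rfl
    have hsmul : ∀ (a : ZMod 2) (x : V n), φ (a • x) = a * φ x := fun a x => by
      rcases zmod_two_cases a with rfl | rfl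
      · rw [zero_smul, zero_mul]
        have := hadd 0 0; rw [add_zero] at this; exact left_eq_add.1 this
      · rw [one_smul, one_mul]
    have h01 : c.2 i * φ (zb i) = 0 := by
      rcases zmod_two_cases (c.2 i) with e | e <;> rcases zmod_two_cases (φ (zb i)) with e' | e' <;>
        simp_all
    have e1 : d (v i c) = v i c := by
      rw [hφ, hv, hadd, hφc, hsmul, h01]; simp
    have e2 : (v i * d * (v i)⁻¹) c = c := by
      rw [hvi, Perm.mul_apply, Perm.mul_apply, e1]; exact shear_self _ _
    have hcomm := h.commute h' e1 e2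
    rw [hvi] at hcomm
    have hdv : d * v i = v i * d := S.commute_of_two h (D.v_self S i) (by
      have hA : d * (v i * d * v i) * (d * (v i * d * v i)) = 1 := by
        calc d * (v i * d * v i) * (d * (v i * d * v i)) =
            d * (v i * d * v i) * ((v i * d * v i) * d) := by rw [← hcomm]
          _ = d * (v i * d * (v i * v i) * d * v i) * d := by group
          _ = 1 := by
            rw [show v i * v i = 1 from Equiv.ext (shear_self _), mul_one, mul_assoc (v i) d d, h.invol, mul_one,
              show v i * v i = 1 from Equiv.ext (shear_self _), mul_one, h.invol]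
      simpa only [mul_assoc] using hA)
    obtain ⟨x, hx⟩ := h.trans.2.1
    have hx1 : φ x = 1 := (zmod_two_cases (φ x)).resolve_left fun e => hx (by rw [hφ, e]; simp)
    have key : ∀ y, φ y • (c.2 i • zb i) = (y.2 i * φ (zb i)) • c := by
      intro y
      have e : d (v i y) = v i (d y) := congrArg (fun p : Perm (V n) => p y) hdv
      rw [hφ, hv, hv, hφ, hadd, hsmul] at e
      simp only [Prod.snd_add, Pi.add_apply, Prod.smul_snd, Pi.smul_apply, smul_eq_mul, add_smul,
        mul_smul] at e
      rw [mul_smul]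
      rcases zmod_two_cases (y.2 i) with a1 | a1 <;> rcases zmod_two_cases (φ y) with a2 | a2 <;>
        rcases zmod_two_cases (φ (zb i)) with a3 | a3 <;> rcases zmod_two_cases (c.2 i) with a4 | a4 <;>
        simp_all [add_assoc, add_comm, add_left_comm, vadd_self]
    rcases zmod_two_cases (c.2 i) with e | e <;> rcases zmod_two_cases (φ (zb i)) with e' | e'
    · exact hne (e'.trans e.symm)
    · have := key (sb i)
      simp [sb, e, e', h.trans.1, eq_comm] at this
    · have := key x
      simp [e, e', hx1, zb_ne_zero] at this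
    · exact hne (e'.trans e.symm)
  rw [hz]

/-- `d` moves `tt` by the parity of the support. -/
theorem D.moves_tt {d : Perm (V n)} {c : V n} (h : S.D d c) : d tt = tt + (∑ i, c.2 i) • c := by
  rw [← sum_zb, S.map_sum h.mem, Finset.sum_congr rfl (fun i _ => h.moves_zb i), Finset.sum_add_distrib,
    ← Finset.sum_smul]

/-- The support of a centre has at most two elements. -/
theorem D.support_le {d : Perm (V n)} {c : V n} (h : S.D d c) :
    (Finset.univ.filter fun i => c.2 i = 1).card ≤ 2 := by
  classical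
  by_contra hlt
  push Not at hlt
  set I := Finset.univ.filter fun i => c.2 i = 1 with hI
  obtain ⟨a, ha, b, hb, b', hb', hab, hab', hbb'⟩ := Finset.two_lt_card.1 hlt
  have hmem : ∀ i, i ∈ I ↔ c.2 i = 1 := by simp [hI]
  -- the translations: `none` is zero, `some k` is `{a,k}`, and one more is `{b,b'}`
  let W : Option ({x // x ∈ I} ) → Fin n → ZMod 2 := fun o =>
    match o with
    | none => Pi.single b 1 + Pi.single b' 1
    | some k => Pi.single a 1 + Pi.single (k : Fin n) 1
  have hW : ∀ o, (∀ i, c.2 i = 0 → W o i = 0) ∧ ∑ i, W o i = 0 := by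
    have one : ∀ (p q : Fin n), p ∈ I → q ∈ I → (∀ i, c.2 i = 0 → (Pi.single p 1 + Pi.single q 1 : Fin n → ZMod 2) i = 0) ∧
        ∑ i, (Pi.single p 1 + Pi.single q 1 : Fin n → ZMod 2) i = 0 := fun p q hp hq => by
      refine ⟨fun i hi => ?_, by simp [Finset.sum_add_distrib, CharTwo.add_self_eq_zero]⟩
      have h1 : i ≠ p := fun e => by rw [e, (hmem p).1 hp] at hi; exact one_ne_zero hi
      have h2 : i ≠ q := fun e => by rw [e, (hmem q).1 hq] at hi; exact one_ne_zero hi
      simp [Pi.single_eq_of_ne h1, Pi.single_eq_of_ne h2]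
    rintro (_ | k)
    · exact one b b' hb hb'
    · exact one a k ha k.2
  have hWinj : Function.Injective W := by
    have e1 : ∀ k : {x // x ∈ I}, W none ≠ W (some k) := fun k e => by
      have e0 := congrFun e a
      have e' := congrFun e b
      have e'' := congrFun e b'
      rcases eq_or_ne (k : Fin n) a with hk | hk
      · simp [W, hk, hab.symm, hbb', CharTwo.add_self_eq_zero] at e'
      · simp [W, hab, hab', hk.symm, CharTwo.add_self_eq_zero] at e0
    rintro (_ | k) (_ | k') e
    · rfl
    · exact absurd e (e1 k')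
    · exact absurd e.symm (e1 k)
    · have e' := congrFun (add_left_cancel e) (k : Fin n)
      rw [Pi.single_eq_same, Pi.single_apply] at e'
      exact congrArg some (Subtype.ext (by simpa using e'))
  obtain ⟨φ, hφ, hadd, hφc⟩ := h.exists_phi
  have hφz : ∀ i, φ (zb i) = c.2 i := fun i => by
    have e := h.moves_zb i
    rw [hφ] at e
    have e' := add_left_cancel e
    rcases zmod_two_cases (φ (zb i)) with x | x <;> rcases zmod_two_cases (c.2 i) with y | y <;>
      simp [x, y, h.trans.1, eq_comm] at e' ⊢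
  have hφW : ∀ (w : Fin n → ZMod 2), (∀ i, c.2 i = 0 → w i = 0) → φ (w, 0) = ∑ i, w i := by
    intro w hw
    have hsum : ((w, 0) : V n) = ∑ i, w i • zb i := by
      ext k <;> simp [zb, Prod.fst_sum, Prod.snd_sum, Finset.sum_apply, Pi.single_apply]
    rw [hsum]
    rw [show φ (∑ i, w i • zb i) = ∑ i, φ (w i • zb i) from _root_.map_sum (AddMonoidHom.mk' φ hadd) _ _]
    refine Finset.sum_congr rfl fun i _ => ?_
    rcases zmod_two_cases (w i) with e | e
    · rw [e, zero_smul]
      have := hadd 0 0; rw [add_zero] at this; exact left_eq_add.1 this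
    · rw [e, one_smul, hφz]
      exact (zmod_two_cases _).resolve_left fun e0 => by rw [hw i e0] at e; exact zero_ne_one e
  have hsh : ∀ (w : Fin n → ZMod 2), (∀ i, c.2 i = 0 → w i = 0) → shear w c = c + (w, 0) := fun w hw => by
    rw [shear_apply]
    refine Prod.ext (funext fun i => ?_) (by simp)
    rcases zmod_two_cases (c.2 i) with e | e
    · simp [e, hw i e]
    · simp [e]
  -- the family
  let f : Option {x // x ∈ I} ⊕ {x // x ∉ I} → Perm (V n) :=
    Sum.elim (fun o => shear (W o) * d * (shear (W o))⁻¹) (fun k => v k)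
  let g : Option {x // x ∈ I} ⊕ {x // x ∉ I} → V n :=
    Sum.elim (fun o => shear (W o) c) (fun k => zb k)
  have hD : ∀ p, S.D (f p) (g p) := by
    rintro (o | k)
    · exact h.conj (S.shear_mem _)
    · exact D.v_self S _
  have hg : Function.Injective g := by
    have key : ∀ o (k : {x // x ∉ I}), g (.inl o) ≠ g (.inr k) := fun o k e => by
      have e' := congrFun (congrArg Prod.snd e) a
      simp [g, shear_apply, zb, (hmem a).1 ha] at e'
    rintro (o | k) (o' | k') e
    · refine congrArg Sum.inl (hWinj ?_)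
      have e' : c + ((W o, 0) : V n) = c + (W o', 0) := by rw [← hsh _ (hW o).1, ← hsh _ (hW o').1]; exact e
      exact congrArg Prod.fst (add_left_cancel e')
    · exact absurd e (key o k')
    · exact absurd e.symm (key o' k)
    · exact congrArg Sum.inr (Subtype.ext (zb_inj e))
  have hfix : ∀ p q, f p (g q) = g q := by
    rintro (o | k) (o' | k')
    · show (shear (W o) * d * (shear (W o))⁻¹) (shear (W o') c) = shear (W o') c
      rw [shear_inv, Perm.mul_apply, Perm.mul_apply]
      have e0 : d (shear (W o) (shear (W o') c)) = shear (W o) (shear (W o') c) := by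
        rw [← Perm.mul_apply (shear (W o)), ← shear_add, hφ, hsh _ (fun i hi => by
          simp [(hW o).1 i hi, (hW o').1 i hi]), hadd, hφc, hφW _ (fun i hi => by
          simp [(hW o).1 i hi, (hW o').1 i hi])]
        simp [Finset.sum_add_distrib, (hW o).2, (hW o').2]
      rw [e0, shear_self]
    · show (shear (W o) * d * (shear (W o))⁻¹) (zb k') = zb k'
      have hz : shear (W o) (zb k') = zb k' := by simp [shear_apply, zb]
      have hd : d (zb k') = zb k' := by
        have hk : c.2 k' = 0 := (zmod_two_cases _).resolve_right fun e => k'.2 ((hmem _).2 e)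
        rw [h.moves_zb, hk, zero_smul, add_zero]
      rw [shear_inv, Perm.mul_apply, Perm.mul_apply, hz, hd, hz]
    · show v k (shear (W o') c) = shear (W o') c
      have hk : c.2 k = 0 := (zmod_two_cases _).resolve_right fun e => k.2 ((hmem _).2 e)
      rw [v_apply]
      simp [shear_apply, hk]
    · show v k (zb (k' : Fin n)) = zb (k' : Fin n)
      rw [v_apply]; simp [zb]
  have hc := S.card_commuting f g hD hg fun p q => (hD p).commute (hD q) (hfix p q) (hfix q p)
  simp only [Fintype.card_sum, Fintype.card_option, Fintype.card_coe, Fintype.card_subtype_compl,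
    Fintype.card_fin] at hc
  have := I.card_le_univ
  rw [Fintype.card_fin] at this
  omega

variable (S)

/-- A single block occurs as a support. -/
def Single (i : Fin n) : Prop := ∃ d c, S.D d c ∧ c.2 = Pi.single i 1

theorem exists_tt {g : Perm (V n)} (hg : g ∈ S.L) :
    ∃ k ∈ Subgroup.closure {d | ∃ c, S.D d c}, g tt = k tt := by
  classical
  haveI : Fact (Nat.Prime 2) := ⟨Nat.prime_two⟩
  set K := Subgroup.closure {d | ∃ c, S.D d c}
  have hKL : K ≤ S.L := (Subgroup.closure_le _).2 fun d ⟨c, h⟩ => h.mem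
  have hconj : ∀ k ∈ K, ∀ g ∈ S.L, g * k * g⁻¹ ∈ K := by
    intro k hk g hg
    induction hk using Subgroup.closure_induction with
    | mem y hy => obtain ⟨c, h⟩ := hy; exact Subgroup.subset_closure ⟨_, h.conj hg⟩
    | one => simp
    | mul y z _ _ iy iz =>
      rw [show g * (y * z) * g⁻¹ = g * y * g⁻¹ * (g * z * g⁻¹) by group]; exact mul_mem iy iz
    | inv y _ iy => rw [show g * y⁻¹ * g⁻¹ = (g * y * g⁻¹)⁻¹ by group]; exact inv_mem iy
  have hvP : IsPGroup 2 ↥((Subgroup.closure (Set.range (v (n := n)))).subgroupOf K) := by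
    refine IsPGroup.comap_subtype ?_
    rintro ⟨x, hx⟩
    refine ⟨1, Subtype.ext ?_⟩
    haveI := Subgroup.isMulCommutative_closure (k := Set.range (v (n := n))) (by
      rintro _ ⟨a, rfl⟩ _ ⟨b, rfl⟩; exact v_comm a b)
    show x ^ 2 ^ 1 = 1
    induction hx using Subgroup.closure_induction with
    | mem y hy => obtain ⟨a, rfl⟩ := hy; rw [pow_one, pow_two]; exact (D.v_self S a).invol
    | one => exact one_pow _
    | mul y z hy hz iy iz =>
      have hyz : Commute y z := setLike_mul_comm hy hz
      rw [hyz.mul_pow, iy, iz, one_mul]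
    | inv y _ iy => rw [inv_pow, iy, inv_one]
  obtain ⟨T, hT⟩ := hvP.exists_le_sylow
  have hvT : ∀ i, ∃ y : ↥K, y ∈ T ∧ (y : Perm (V n)) = v i := fun i =>
    ⟨⟨v i, Subgroup.subset_closure ⟨_, D.v_self S i⟩⟩, hT (Subgroup.subset_closure ⟨i, rfl⟩), rfl⟩
  -- a second Sylow group: the conjugate by `g`
  let cg : ↥K →* ↥K :=
    { toFun := fun k => ⟨g * (k : Perm (V n)) * g⁻¹, hconj _ k.2 g hg⟩
      map_one' := Subtype.ext (by simp)
      map_mul' := fun a b => Subtype.ext (by simp [mul_assoc]) }
  have hcinj : Function.Injective cg := fun a b e =>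
    Subtype.ext (mul_left_cancel (mul_right_cancel (congrArg Subtype.val e)))
  obtain ⟨δ, hδ⟩ := Invol.exists_conj_subset_sylow ((T.isPGroup'.map cg : IsPGroup 2 ↥((T : Subgroup ↥K).map cg))) T
  set m := (δ : Perm (V n)) * g with hm
  have hmL : m ∈ S.L := mul_mem (hKL δ.2) hg
  -- the conjugates of the shears in `T` are shears
  obtain ⟨k, -, hkv⟩ := S.two_group_D (P := (T : Subgroup ↥K).map K.subtype)
    ((Subgroup.map_subtype_le _).trans hKL) (T.isPGroup'.map _)
  choose σ hσ using fun i => hkv (v i) (zb i) ((hvT i).elim fun y hy => ⟨y, hy.1, hy.2⟩) (D.v_self S i)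
  have hv_inj : Function.Injective (v (n := n)) := fun a b e =>
    zb_inj ((v_trans a).centre_unique (e ▸ v_trans b))
  have hσinj : Function.Injective σ := fun a b e => hv_inj (by
    have hab : k * v a * k⁻¹ = k * v b * k⁻¹ := by rw [hσ, hσ, e]
    exact mul_left_cancel (mul_right_cancel hab))
  have hperm : ∀ i, ∃ j, m (zb i) = zb j := by
    intro i
    obtain ⟨y, hy, hyv⟩ := hvT i
    have hmem : m * v i * m⁻¹ ∈ (T : Subgroup ↥K).map K.subtype := by
      refine ⟨δ * cg y * δ⁻¹, hδ _ ⟨y, hy, rfl⟩, ?_⟩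
      simp [cg, hm, hyv, mul_assoc]
    obtain ⟨l, hl⟩ := hkv _ _ hmem ((D.v_self S i).conj hmL)
    obtain ⟨j, rfl⟩ := (Finite.injective_iff_surjective.1 hσinj) l
    rw [← hσ j] at hl
    refine ⟨j, ((D.v_self S i).conj hmL).centre_unique ?_⟩
    rw [mul_left_cancel (mul_right_cancel hl)]; exact D.v_self S j
  choose τ hτ using hperm
  have hτinj : Function.Injective τ := fun a b e => zb_inj (m.injective (by rw [hτ, hτ, e]))
  have hmt : m tt = tt := by
    rw [← sum_zb, S.map_sum hmL, Finset.sum_congr rfl fun i _ => hτ i]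
    exact Function.Bijective.sum_comp (Finite.injective_iff_bijective.1 hτinj) (fun i => zb i)
  refine ⟨(δ : Perm (V n))⁻¹, inv_mem δ.2, ?_⟩
  conv_rhs => rw [← hmt]
  simp [hm]

variable {S}

theorem single_cases {d : Perm (V n)} {c : V n} (h : S.D d c) :
    c.2 = 0 ∨ (∃ i, c.2 = Pi.single i 1) ∨ ∃ i j, i ≠ j ∧ c.2 = Pi.single i 1 + Pi.single j 1 := by
  classical
  have hb := h.support_le
  set I := Finset.univ.filter fun i => c.2 i = 1 with hI
  have hmem : ∀ i, i ∈ I ↔ c.2 i = 1 := by simp [hI]
  interval_cases hc : I.card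
  · left
    rw [Finset.card_eq_zero] at hc
    exact funext fun k => (zmod_two_cases _).resolve_right fun e => by simpa [hc] using (hmem k).2 e
  · obtain ⟨i, hi⟩ := Finset.card_eq_one.1 hc
    refine Or.inr (Or.inl ⟨i, funext fun k => ?_⟩)
    rcases eq_or_ne k i with rfl | hne
    · rw [Pi.single_eq_same]; exact (hmem k).1 (by simp [hi])
    · rw [Pi.single_eq_of_ne hne]
      exact (zmod_two_cases _).resolve_right fun e => hne (by simpa [hi] using (hmem k).2 e)
  · obtain ⟨i, j, hij, hi⟩ := Finset.card_eq_two.1 hc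
    refine Or.inr (Or.inr ⟨i, j, hij, funext fun k => ?_⟩)
    rcases eq_or_ne k i with rfl | h1
    · simp [(hmem k).1 (by simp [hi]), hij]
    rcases eq_or_ne k j with rfl | h2
    · simp [(hmem k).1 (by simp [hi]), hij.symm]
    simp only [Pi.add_apply, Pi.single_eq_of_ne h1, Pi.single_eq_of_ne h2, add_zero]
    exact (zmod_two_cases _).resolve_right fun e => by simpa [hi, h1, h2] using (hmem k).2 e

/-- A transvection with one block and one with a pair through it give the other block. -/
theorem single_of_pair {d : Perm (V n)} {c : V n} (h : S.D d c) {i j : Fin n} (hij : i ≠ j)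
    (hc : c.2 = Pi.single i 1 + Pi.single j 1) (hj : S.Single j) : S.Single i := by
  obtain ⟨d', c', h', hc'⟩ := hj
  have hcj : c.2 j = 1 := by simp [hc, hij.symm]
  have step : ∀ e f, S.D e f → f.2 = Pi.single j 1 → e c ≠ c → S.Single i := fun e f he hf hne => by
    refine ⟨e * d * e⁻¹, e c, h.conj he.mem, ?_⟩
    rw [he.trans.move hne, Prod.snd_add, hc, hf, add_assoc]
    refine add_eq_left.2 (funext fun k => ?_)
    simp [CharTwo.add_self_eq_zero]
  by_cases hm : d' c = c
  · refine step _ _ (h'.conj (S.v_mem j)) ?_ fun e => ?_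
    · rw [v_apply, Prod.snd_add, hc']; simp [zb]
    · have e' := congrArg (v j) e
      have hvj : (v j)⁻¹ = v j := rfl
      rw [hvj, Perm.mul_apply, Perm.mul_apply] at e'
      have hvv : ∀ x, v j (v j x) = x := shear_self _
      rw [hvv, v_apply j c, hcj, one_smul, S.add d' h'.mem, hm, h'.moves_zb, hc'] at e'
      simp [h'.trans.1] at e'
  · exact step d' c' h' hc' hm

variable (S)

/-- If the `P`-parity of `tt` changes, a single block in `P` occurs. -/
theorem exists_single_in (P : Fin n → Prop) [DecidablePred P]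
    (hperm : ∀ f f', ¬ P f → ¬ P f' → S.Single f → S.Single f') {g : Perm (V n)} (hg : g ∈ S.L)
    (hmove : ∑ i, (if P i then 1 else 0) * (g tt).2 i = (1 : ZMod 2)) : ∃ e, P e ∧ S.Single e := by
  classical
  by_contra hno
  push Not at hno
  obtain ⟨k, hk, hgk⟩ := S.exists_tt hg
  rw [hgk] at hmove
  have h0 : ∀ x : V n, x.2 = 0 → ∑ i, (if P i then 1 else 0) * x.2 i = (0 : ZMod 2) := fun x e => by simp [e]
  -- some single block occurs
  obtain ⟨f, hf⟩ : ∃ f, S.Single f := by
    by_contra hn
    push Not at hn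
    have hfix : k tt = tt := by
      clear hmove hgk
      induction hk using Subgroup.closure_induction with
      | mem d hd =>
        obtain ⟨c, h⟩ := hd
        rw [h.moves_tt]
        rcases single_cases h with e | ⟨i, e⟩ | ⟨i, j, -, e⟩
        · simp [e]
        · exact absurd ⟨d, c, h, e⟩ (hn i)
        · simp [e, Finset.sum_add_distrib, CharTwo.add_self_eq_zero]
      | one => rfl
      | mul y z _ _ iy iz => rw [Perm.mul_apply, iz, iy]
      | inv y _ iy => exact (Perm.inv_eq_iff_eq (f := y)).2 iy.symm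
    rw [hfix, h0 _ rfl] at hmove
    exact zero_ne_one hmove
  have hfP : ¬ P f := fun e => hno f e hf
  have hpar : ∀ x : V n, ∑ i, (if P i then 1 else 0) * (k x).2 i = ∑ i, (if P i then 1 else 0) * x.2 i := by
    clear hmove hgk
    induction hk using Subgroup.closure_induction with
    | mem d hd =>
      intro x
      obtain ⟨c, h⟩ := hd
      obtain ⟨φ, hφ, -, -⟩ := h.exists_phi
      have hsum : ∑ i, (if P i then 1 else 0) * c.2 i = (0 : ZMod 2) := by
        rcases single_cases h with e | ⟨i, e⟩ | ⟨i, j, hij, e⟩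
        · simp [e]
        · have hi : ¬ P i := fun hh => hno i hh ⟨d, c, h, e⟩
          simp [e, Pi.single_apply, hi]
        · by_cases hi : P i <;> by_cases hj : P j
          · simp [e, hi, hj, mul_add, Finset.sum_add_distrib, Pi.single_apply, CharTwo.add_self_eq_zero]
          · exact absurd (single_of_pair h hij e (hperm f j hfP hj hf)) (hno i hi)
          · exact absurd (single_of_pair h hij.symm (e.trans (add_comm _ _)) (hperm f i hfP hi hf)) (hno j hj)
          · simp [e, hi, hj, mul_add, Finset.sum_add_distrib, Pi.single_apply]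
      simp only [hφ, Prod.snd_add, Pi.add_apply, mul_add, Finset.sum_add_distrib, Prod.smul_snd,
        Pi.smul_apply, smul_eq_mul, mul_left_comm _ (φ x), ← Finset.mul_sum, hsum, mul_zero, add_zero]
    | one => intro x; rfl
    | mul y z _ _ iy iz => intro x; rw [Perm.mul_apply, iy, iz]
    | inv y _ iy => intro x; rw [← iy]; simp
  rw [hpar, h0 _ rfl] at hmove
  exact zero_ne_one hmove

/-- Some single block occurs as soon as `tt` is moved. -/
theorem exists_single {g : Perm (V n)} (hg : g ∈ S.L) (hne : g tt ≠ tt) : ∃ i, S.Single i := by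
  by_contra hn
  push Not at hn
  obtain ⟨k, hk, hgk⟩ := S.exists_tt hg
  rw [hgk] at hne
  refine hne ?_
  clear hne hgk
  induction hk using Subgroup.closure_induction with
  | mem d hd =>
    obtain ⟨c, h⟩ := hd
    rw [h.moves_tt]
    rcases single_cases h with e | ⟨i, e⟩ | ⟨i, j, -, e⟩
    · simp [e]
    · exact absurd ⟨d, c, h, e⟩ (hn i)
    · simp [e, Finset.sum_add_distrib, CharTwo.add_self_eq_zero]
  | one => rfl
  | mul y z _ _ iy iz => rw [Perm.mul_apply, iz, iy]
  | inv y _ iy => exact (Perm.inv_eq_iff_eq (f := y)).2 iy.symm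

/-- One step of the reduction. -/
theorem reduce_step {x : V n} {i : Fin n} (hx : x.2 i = 1) (hi : S.Single i) :
    ∃ g ∈ S.L, (g x).2 = x.2 + Pi.single i 1 := by
  obtain ⟨d, c, h, hc⟩ := hi
  obtain ⟨φ, hφ, hadd, -⟩ := h.exists_phi
  rcases zmod_two_cases (φ x) with e | e
  · refine ⟨v i * d * (v i)⁻¹, mul_mem (mul_mem (S.v_mem i) h.mem) (inv_mem (S.v_mem i)), ?_⟩
    have hz : φ (zb i) = 1 := by
      have e1 := h.moves_zb i
      rw [hφ] at e1
      have e2 := add_left_cancel e1
      rw [hc, Pi.single_eq_same, one_smul] at e2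
      exact (zmod_two_cases _).resolve_left fun e0 => h.trans.1 (by rw [e0, zero_smul] at e2; exact e2.symm)
    have hvi : (v i)⁻¹ = v i := rfl
    rw [hvi, Perm.mul_apply, Perm.mul_apply, v_apply i x, hx, one_smul, hφ, hadd, e, hz, zero_add, one_smul,
      v_apply]
    simp [zb, hc]
  · exact ⟨d, h.mem, by rw [hφ, e, one_smul, Prod.snd_add, hc]⟩

/-- Blocks in which singles occur can be cleared. -/
theorem reduce (P : Finset (Fin n)) (hP : ∀ i ∈ P, S.Single i) (x : V n) :
    ∃ g ∈ S.L, ∀ i, (g x).2 i = if i ∈ P then 0 else x.2 i := by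
  classical
  induction P using Finset.induction with
  | empty => exact ⟨1, one_mem _, fun i => by simp⟩
  | insert a P ha ih =>
    obtain ⟨g, hg, hgx⟩ := ih fun i hi => hP i (Finset.mem_insert_of_mem hi)
    rcases zmod_two_cases ((g x).2 a) with e | e
    · exact ⟨g, hg, fun i => by
        rcases eq_or_ne i a with rfl | hne
        · simpa using e
        · simpa [hne] using hgx i⟩
    · obtain ⟨h, hh, hhx⟩ := S.reduce_step e (hP a (Finset.mem_insert_self a P))
      refine ⟨h * g, mul_mem hh hg, fun i => ?_⟩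
      rw [Perm.mul_apply, hhx, Pi.add_apply]
      rcases eq_or_ne i a with rfl | hne
      · simp [e, CharTwo.add_self_eq_zero]
      · simpa [hne] using hgx i

end Lin

end Cfsg.Agent.Invol.Kondo
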