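import Cfsg.Agent.Lib.Invol.KondoClasses.Frame
import Cfsg.Agent.Lib.Invol.KondoClasses.Invols

/-!
# The linear groups of the choices and the fusion they control (for S3191)
-/

set_option autoImplicit false

namespace Cfsg.Agent.Invol.Kondo

open Equiv Subgroup

universe u

variable {n : ℕ}

namespace Frame

variable {G : Type u} [Group G] (F : Frame G n)

/-- An element of a choice in the group. -/
noncomputable def E (χ : Fin n → Bool) (x : V n) : G := F.e (emb χ x)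

theorem emb_mem (χ : Fin n → Bool) (x : V n) : emb χ x ∈ PG n := AG_le_PG χ ⟨x, rfl⟩

theorem E_add (χ : Fin n → Bool) (x y : V n) : F.E χ (x + y) = F.E χ x * F.E χ y := by
  rw [E, emb_add, F.e_mul (emb_mem χ x) (emb_mem χ y)]; rfl

theorem E_inj (χ : Fin n → Bool) : Function.Injective (F.E χ) := fun x y h =>
  emb_inj χ (F.e_inj (emb_mem χ x) (emb_mem χ y) h)

theorem E_mem (χ : Fin n → Bool) (x : V n) : F.E χ x ∈ F.im (AG χ) := F.e_mem_im (AG_le_PG χ) ⟨x, rfl⟩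

theorem E_surj {χ : Fin n → Bool} {g : G} (hg : g ∈ F.im (AG χ)) : ∃ x, F.E χ x = g := by
  obtain ⟨_, ⟨x, rfl⟩, h⟩ := (F.mem_im (AG_le_PG χ)).1 hg
  exact ⟨x, h⟩

theorem E_tt (χ : Fin n → Bool) : F.E χ tt = F.t := by rw [E, emb_tt]; rfl

theorem E_congr {χ χ' : Fin n → Bool} {x : V n} (h : ∀ i, x.2 i = 1 → χ i = χ' i) : F.E χ x = F.E χ' x := by
  rw [E, E, emb_congr h]

theorem conj_E {p : Perm (X n)} (hp : p ∈ PG n) (χ : Fin n → Bool) (x : V n) :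
    F.e p * F.E χ x * (F.e p)⁻¹ = F.e (p * emb χ x * p⁻¹) := (F.e_conj hp (emb_mem χ x)).symm

variable [Finite G]

/-- The action on a choice. -/
noncomputable def actFun (χ : Fin n → Bool) (g : ↥(F.N χ)) (x : V n) : V n :=
  (F.E_surj (F.N_mem g.2 (F.E_mem χ x))).choose

theorem actFun_spec (χ : Fin n → Bool) (g : ↥(F.N χ)) (x : V n) :
    F.E χ (F.actFun χ g x) = g * F.E χ x * (g : G)⁻¹ :=
  (F.E_surj (F.N_mem g.2 (F.E_mem χ x))).choose_spec

/-- The action as a homomorphism. -/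
noncomputable def act (χ : Fin n → Bool) : ↥(F.N χ) →* Perm (V n) where
  toFun g :=
    { toFun := F.actFun χ g
      invFun := F.actFun χ g⁻¹
      left_inv := fun x => F.E_inj χ (by rw [F.actFun_spec, F.actFun_spec, Subgroup.coe_inv]; group)
      right_inv := fun x => F.E_inj χ (by rw [F.actFun_spec, F.actFun_spec, Subgroup.coe_inv]; group) }
  map_one' := Equiv.ext fun x => F.E_inj χ (by
    show F.E χ (F.actFun χ 1 x) = F.E χ x
    rw [F.actFun_spec]; simp)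
  map_mul' g h := Equiv.ext fun x => F.E_inj χ (by
    show F.E χ (F.actFun χ (g * h) x) = F.E χ (F.actFun χ g (F.actFun χ h x))
    rw [F.actFun_spec, F.actFun_spec, F.actFun_spec, Subgroup.coe_mul]; group)

theorem act_spec {χ : Fin n → Bool} (g : ↥(F.N χ)) (x : V n) : F.E χ (F.act χ g x) = g * F.E χ x * (g : G)⁻¹ :=
  F.actFun_spec χ g x

theorem act_eq {χ : Fin n → Bool} (g : ↥(F.N χ)) {x y : V n} (h : (g : G) * F.E χ x * (g : G)⁻¹ = F.E χ y) :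
    F.act χ g x = y := F.E_inj χ ((F.act_spec g x).trans h)

/-- Conjugation by a part of the model. -/
theorem QG_E {p : Perm (X n)} (hp : p ∈ QG n) (χ : Fin n → Bool) :
    ∃ (π : Perm (Fin n)) (ε : Fin n → ZMod 2), ∀ x, F.e p * F.E χ x * (F.e p)⁻¹ =
      F.E (χ ∘ ⇑π⁻¹) ((shear ε x).1 ∘ ⇑π⁻¹, (shear ε x).2 ∘ ⇑π⁻¹) := by
  obtain ⟨π, ε, h⟩ := QG_emb hp χ
  exact ⟨π, ε, fun x => by rw [F.conj_E (QG_le_PG hp), h]; rfl⟩

theorem emb_inj2 {χ χ' : Fin n → Bool} {x y : V n} (h : emb χ x = emb χ' y) : x = y := by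
  have h' : ∀ i, x.1 i = y.1 i ∧ x.2 i = y.2 i := fun i => by
    obtain ⟨a, b, -⟩ := elt_inj2 _ _ _ _ _ _ (congrFun (mk_inj h) i)
    exact ⟨a, b⟩
  exact Prod.ext (funext fun i => (h' i).1) (funext fun i => (h' i).2)

/-- Block permutations fixing a choice normalise it. -/
theorem bp_mem_N {χ : Fin n → Bool} {π : Perm (Fin n)} (h : ∀ i, χ (π i) = χ i) : F.e (bp n π) ∈ F.N χ := by
  refine F.mem_N_of fun x hx => ?_
  obtain ⟨v, rfl⟩ := F.E_surj hx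
  rw [F.conj_E (bp_mem_PG π), bp_emb, show χ ∘ ⇑π⁻¹ = χ from funext fun i => by
    show χ (π⁻¹ i) = χ i
    rw [← h (π⁻¹ i)]; simp]
  exact F.E_mem χ _

theorem wv_mem_N (χ : Fin n → Bool) (i : Fin n) : F.e (wv χ i) ∈ F.N χ := F.JG_norm_AG (wv_mem χ i)

/-- The linear group of a choice. -/
noncomputable def lin (χ : Fin n → Bool) : Lin n where
  L := (F.act χ).range
  add := by
    rintro _ ⟨g, rfl⟩ x y
    refine F.act_eq g ?_
    rw [F.E_add, F.E_add, F.act_spec, F.act_spec]; group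
  v_mem i := ⟨⟨_, F.wv_mem_N χ i⟩, Equiv.ext fun x => F.act_eq _ (by
    rw [F.conj_E (JG_le_PG (wv_mem χ i)), wv_emb]; rfl)⟩
  Q := {f | ∃ p ∈ QG n, ∀ x, F.E χ (f x) = F.e p * F.E χ x * (F.e p)⁻¹}
  form := by
    rintro f ⟨p, hp, hf⟩
    obtain ⟨π, ε, h⟩ := QG_emb hp χ
    have hfx : ∀ x, f x = ((shear ε x).1 ∘ ⇑π⁻¹, (shear ε x).2 ∘ ⇑π⁻¹) := fun x =>
      emb_inj2 (F.e_inj (emb_mem _ _) (emb_mem _ _) (by
        have := hf x
        rw [F.conj_E (QG_le_PG hp), h] at this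
        exact this))
    refine ⟨π, ε, fun i => ⟨?_, ?_⟩⟩
    · rw [hfx]
      have key : ∀ k, (π.symm k = i) ↔ k = π i := fun k => Equiv.symm_apply_eq π
      ext k <;> simp [zb, shear_apply, Pi.single_apply, key]
    · rw [hfx]
      have key : ∀ k, (π.symm k = i) ↔ k = π i := fun k => Equiv.symm_apply_eq π
      ext k
      · by_cases hk : k = π i
        · subst hk; simp [sb, zb, shear_apply]
        · have hk' : π.symm k ≠ i := fun e => hk ((key k).1 e)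
          simp [sb, zb, shear_apply, Pi.single_eq_of_ne hk, Pi.single_eq_of_ne hk']
      · simp [sb, zb, shear_apply, Pi.single_apply, key]
  conjQ := by
    classical
    haveI : Fact (Nat.Prime 2) := ⟨Nat.prime_two⟩
    intro P hP hP2
    set act := F.act χ with hact
    set P' : Subgroup ↥(F.N χ) := P.comap act with hP'
    let f : ↥P' →* ↥P := act.subgroupComap P
    have hf : Function.Surjective f := by
      rintro ⟨q, hq⟩
      obtain ⟨g, rfl⟩ := hP hq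
      exact ⟨⟨g, hq⟩, rfl⟩
    obtain ⟨R⟩ : Nonempty (Sylow 2 ↥P') := inferInstance
    have htop : (R : Subgroup ↥P').map f = ⊤ :=
      ((R.mapSurjective hf).is_maximal' (hP2.of_equiv Subgroup.topEquiv.symm) le_top).symm
    obtain ⟨T, hTN, hJT, hsyl, a, ha⟩ := F.norm_two χ
    let R' : Subgroup G := ((R : Subgroup ↥P').map P'.subtype).map (F.N χ).subtype
    obtain ⟨w, hw, hwT⟩ := hsyl R' (map_subtype_le _) ((R.isPGroup'.map _).map _)
    obtain ⟨k, hk, p, hp, rfl, hkJ⟩ := F.J_of_T hJT ha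
    have hpP := QG_le_PG hp
    have hm : (F.e p)⁻¹ * (k * F.e p) ∈ F.N χ := by
      refine F.mem_N_of fun x hx => ?_
      obtain ⟨v, rfl⟩ := F.E_surj hx
      obtain ⟨π, ε, h⟩ := QG_emb hp χ
      have hj : p * emb χ v * p⁻¹ ∈ JG n := by rw [h]; exact AG_le_JG _ ⟨_, rfl⟩
      rw [show (F.e p)⁻¹ * (k * F.e p) * F.E χ v * ((F.e p)⁻¹ * (k * F.e p))⁻¹ =
        (F.e p)⁻¹ * (k * (F.e p * F.E χ v * (F.e p)⁻¹) * k⁻¹) * F.e p by group, F.conj_E hpP, hkJ _ hj,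
        mul_inv_cancel_right, ← F.conj_E hpP]
      have := F.E_mem χ v
      simpa [mul_assoc] using this
    refine ⟨act (⟨_, hm⟩ * ⟨w, hw⟩), ⟨_, rfl⟩, fun q hq => ?_⟩
    obtain ⟨r, hr, hrq⟩ : (⟨q, hq⟩ : ↥P) ∈ (R : Subgroup ↥P').map f := htop ▸ mem_top _
    have hrG : ((r : ↥(F.N χ)) : G) ∈ R' := ⟨_, ⟨r, hr, rfl⟩, rfl⟩
    obtain ⟨s, hs, hse⟩ := (F.mem_im QG_le_PG).1 (ha _ (hwT _ hrG))
    refine ⟨p⁻¹ * s * p, mul_mem (mul_mem (inv_mem hp) hs) hp, fun x => ?_⟩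
    have hq' : q = act r := (congrArg Subtype.val hrq).symm
    rw [hq', ← map_inv, ← map_mul, ← map_mul, hact, F.act_spec,
      F.e_mul (mul_mem (inv_mem hpP) (QG_le_PG hs)) hpP, F.e_mul (inv_mem hpP) (QG_le_PG hs), F.e_inv hpP, hse]
    simp only [Subgroup.coe_mul, Subgroup.coe_inv]
    group

theorem mem_L {χ : Fin n → Bool} {g : Perm (V n)} (hg : g ∈ (F.lin χ).L) :
    ∃ m : ↥(F.N χ), F.act χ m = g := hg

theorem isConj_of_mem {χ : Fin n → Bool} {g : Perm (V n)} (hg : g ∈ (F.lin χ).L) (x : V n) :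
    IsConj (F.E χ x) (F.E χ (g x)) := by
  obtain ⟨m, rfl⟩ := F.mem_L hg
  exact isConj_iff.2 ⟨m, (F.act_spec m x).symm⟩

/-- A Sylow 2-subgroup between the block group and the model. -/
theorem exists_sylow : ∃ R : Sylow 2 G, F.im (JG n) ≤ (R : Subgroup G) ∧ (R : Subgroup G) ≤ F.im (QG n) := by
  haveI : Fact (Nat.Prime 2) := ⟨Nat.prime_two⟩
  obtain ⟨R, hR⟩ := F.J_isPGroup.exists_le_sylow
  obtain ⟨a, ha⟩ := F.sylow _ R.isPGroup'
  obtain ⟨k, hk, p, hp, rfl, hkJ⟩ := F.J_of_T hR ha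
  set a' := (F.e p)⁻¹ * (k * F.e p)
  refine ⟨a' • R, fun j hj => ?_, fun j hj => ?_⟩
  · rw [Sylow.coe_subgroup_smul, Subgroup.mem_pointwise_smul_iff_inv_smul_mem]
    have ha' : a' * j = j * a' := by
      obtain ⟨q, hq, rfl⟩ := (F.mem_im JG_le_PG).1 hj
      obtain ⟨π, g, hg, rfl⟩ := hp
      have hpP := mul_mem (bp_mem_PG π) (mk_mem_PG.2 hg)
      obtain ⟨g', hg', rfl⟩ := hq
      have hc : bp n π * bm n g * bm n g' * (bp n π * bm n g)⁻¹ ∈ JG n := by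
        rw [show bp n π * bm n g * bm n g' * (bp n π * bm n g)⁻¹ =
          bp n π * bm n (g * g' * g⁻¹) * (bp n π)⁻¹ by rw [map_mul, map_mul, map_inv]; group, bp_mk]
        refine ⟨_, fun i => ?_, rfl⟩
        exact mk_mem_PG.1 (show bm n (g * g' * g⁻¹) ∈ PG n by
          rw [map_mul, map_mul, map_inv]
          exact mul_mem (mul_mem (mk_mem_PG.2 hg) (mk_mem_PG.2 hg')) (inv_mem (mk_mem_PG.2 hg))) _
      have e1 := hkJ _ hc
      rw [F.e_conj hpP (mk_mem_PG.2 hg')] at e1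
      refine mul_left_cancel (a := F.e (bp n π * bm n g)) (mul_right_cancel (b := (F.e (bp n π * bm n g))⁻¹) ?_)
      simp only [a', mul_assoc, mul_inv_cancel_left] at e1 ⊢
      simpa [mul_assoc] using e1
    rw [MulAut.smul_def, MulAut.inv_apply, MulAut.conj_symm_apply, mul_assoc, ← ha', inv_mul_cancel_left]
    exact hR hj
  · rw [Sylow.coe_subgroup_smul] at hj
    obtain ⟨r, hr, rfl⟩ := hj
    obtain ⟨q, hq, hqe⟩ := (F.mem_im QG_le_PG).1 (ha r hr)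
    refine (F.mem_im QG_le_PG).2 ⟨p⁻¹ * q * p, mul_mem (mul_mem (inv_mem hp) hq) hp, ?_⟩
    have hpP := QG_le_PG hp
    show _ = (F.e p)⁻¹ * (k * F.e p) * r * ((F.e p)⁻¹ * (k * F.e p))⁻¹
    rw [F.e_mul (mul_mem (inv_mem hpP) (QG_le_PG hq)) hpP, F.e_mul (inv_mem hpP) (QG_le_PG hq), F.e_inv hpP, hqe]
    group

/-- 2-subgroups of the centraliser of `t` move into the model by elements centralising `t`. -/
theorem cent_sylow {P : Subgroup G} (hP : IsPGroup 2 ↥P) (hPt : ∀ x ∈ P, x * F.t = F.t * x) :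
    ∃ c : G, c * F.t = F.t * c ∧ ∀ x ∈ P, c * x * c⁻¹ ∈ F.im (QG n) := by
  haveI : Fact (Nat.Prime 2) := ⟨Nat.prime_two⟩
  obtain ⟨R, -, hR⟩ := F.exists_sylow
  set C := Subgroup.centralizer ({F.t} : Set G)
  have hRC : (R : Subgroup G) ≤ C := fun x hx => by
    obtain ⟨q, hq, rfl⟩ := (F.mem_im QG_le_PG).1 (hR hx)
    exact Subgroup.mem_centralizer_singleton_iff.2 (F.e_comm_t (QG_le_PG hq))
  obtain ⟨c, hc⟩ := exists_conj_subset_sylow (hP.comap_subtype (K := C)) (R.subtype hRC)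
  exact ⟨c, Subgroup.mem_centralizer_singleton_iff.1 c.2,
    fun x hx => hR (hc ⟨x, Subgroup.mem_centralizer_singleton_iff.2 (hPt x hx)⟩ hx)⟩

/-- Fusion of `t` into a choice is realised in its normaliser. -/
theorem moved_of_conj {χ : Fin n → Bool} {x : V n} (h : IsConj F.t (F.E χ x)) :
    ∃ g ∈ (F.lin χ).L, g tt = x := by
  obtain ⟨g, hg⟩ := isConj_iff.1 h
  let W := (F.im (AG χ)).map (MulAut.conj g⁻¹).toMonoidHom
  have hWt : ∀ w ∈ W, w * F.t = F.t * w := by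
    rintro _ ⟨u, hu, rfl⟩
    obtain ⟨v, rfl⟩ := F.E_surj hu
    have hc : F.E χ v * F.E χ x = F.E χ x * F.E χ v := by rw [← F.E_add, add_comm, F.E_add]
    simp only [MulEquiv.coe_toMonoidHom, MulAut.conj_apply, inv_inv]
    rw [show F.t = g⁻¹ * F.E χ x * g by rw [← hg]; group,
      show g⁻¹ * F.E χ v * g * (g⁻¹ * F.E χ x * g) = g⁻¹ * (F.E χ v * F.E χ x) * g by group,
      show g⁻¹ * F.E χ x * g * (g⁻¹ * F.E χ v * g) = g⁻¹ * (F.E χ x * F.E χ v) * g by group, hc]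
  obtain ⟨c, hct, hc⟩ := F.cent_sylow ((F.A_isPGroup χ).map _) hWt
  obtain ⟨p, hp, hpN⟩ := F.A_conj (χ := χ) (a := c * g⁻¹) fun u hu => by
    have := hc _ (Subgroup.mem_map_of_mem (MulAut.conj g⁻¹).toMonoidHom hu)
    simpa [mul_assoc] using this
  refine ⟨(F.act χ ⟨_, hpN⟩)⁻¹, inv_mem ⟨_, rfl⟩, ?_⟩
  rw [Perm.inv_eq_iff_eq]
  refine (F.act_eq _ ?_).symm
  rw [F.E_tt]
  have hpt := F.e_comm_t (QG_le_PG hp)
  show (F.e p)⁻¹ * (c * g⁻¹) * F.E χ x * ((F.e p)⁻¹ * (c * g⁻¹))⁻¹ = F.t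
  rw [← hg, show (F.e p)⁻¹ * (c * g⁻¹) * (g * F.t * g⁻¹) * ((F.e p)⁻¹ * (c * g⁻¹))⁻¹ =
    (F.e p)⁻¹ * (c * F.t) * c⁻¹ * F.e p by group, hct, ← mul_assoc, mul_inv_cancel_right, mul_assoc, ← hpt,
    inv_mul_cancel_left]

/-- A constant choice controls the fusion of its elements. -/
theorem const_control (b : Bool) {x y : V n} (h : IsConj (F.E (fun _ => b) x) (F.E (fun _ => b) y)) :
    ∃ g ∈ (F.lin (fun _ => b)).L, g x = y := by
  obtain ⟨g, hg⟩ := isConj_iff.1 h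
  have hcomm : ∀ z, ∀ u ∈ F.im (AG fun _ : Fin n => b),
      u * F.E (fun _ => b) z = F.E (fun _ => b) z * u := fun z u hu => by
    obtain ⟨v, rfl⟩ := F.E_surj hu
    rw [← F.E_add, add_comm, F.E_add]
  obtain ⟨m, hm, hmxy⟩ := F.weak_control (F.A_isPGroup fun _ => b) (fun a ha u hu => by
    obtain ⟨p, hp, hpN⟩ := F.A_conj ha
    obtain ⟨v, hv⟩ := F.E_surj (F.N_mem hpN hu)
    obtain ⟨π, ε, hπ⟩ := F.QG_E hp (fun _ => b)
    rw [show a * u * a⁻¹ = F.e p * ((F.e p)⁻¹ * a * u * ((F.e p)⁻¹ * a)⁻¹) * (F.e p)⁻¹ by group, ← hv, hπ]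
    exact F.E_mem _ _) (hcomm x) (hcomm y) hg
  exact ⟨F.act _ ⟨m, F.mem_N_of hm⟩, ⟨_, rfl⟩, F.act_eq _ hmxy⟩

/-- The centre of the block group controls its fusion by block permutations. -/
theorem zel_control {w w' : Fin n → ZMod 2} (h : IsConj (F.e (zel w)) (F.e (zel w'))) :
    ∃ π : Perm (Fin n), w' = w ∘ ⇑π⁻¹ := by
  obtain ⟨g, hg⟩ := isConj_iff.1 h
  have hcomm : ∀ z, ∀ u ∈ F.im (JG n), u * F.e (zel z) = F.e (zel z) * u := fun z u hu => by
    obtain ⟨q, hq, rfl⟩ := (F.mem_im JG_le_PG).1 hu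
    rw [← F.e_mul (JG_le_PG hq) (JG_le_PG (zel_mem z)), zel_central hq,
      F.e_mul (JG_le_PG (zel_mem z)) (JG_le_PG hq)]
  obtain ⟨m, hm, hmw⟩ := F.weak_control F.J_isPGroup (fun a ha => F.weak_J ha) (hcomm w) (hcomm w') hg
  obtain ⟨k, hk, p, hp, rfl, hkJ⟩ := F.norm_J hm
  obtain ⟨π, ε, hπ⟩ := QG_emb hp (fun _ => true)
  refine ⟨π, ?_⟩
  have e1 : p * zel w * p⁻¹ = zel (w ∘ ⇑π⁻¹) := by
    rw [← emb_zel (fun _ => true), ← emb_zel ((fun _ => true) ∘ ⇑π⁻¹), hπ]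
    simp [shear_apply]
  have hpw : p * zel w * p⁻¹ ∈ JG n := e1 ▸ zel_mem _
  have e2 : F.e (zel w') = F.e (zel (w ∘ ⇑π⁻¹)) := by
    rw [← hmw, show k * F.e p * F.e (zel w) * (k * F.e p)⁻¹ = k * (F.e p * F.e (zel w) * (F.e p)⁻¹) * k⁻¹ by group,
      ← F.e_conj (QG_le_PG hp) (JG_le_PG (zel_mem w)), hkJ _ hpw, mul_inv_cancel_right, e1]
  have e3 := F.e_inj (JG_le_PG (zel_mem _)) (JG_le_PG (zel_mem _)) e2
  rw [← emb_zel (fun _ => true), ← emb_zel (fun _ => true)] at e3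
  exact congrArg Prod.fst (emb_inj _ e3)

/-- The parities are invariant in the centraliser of `t`. -/
theorem par_invariant {g : G} (hg : g * F.t = F.t * g) (b : Bool) {q r : ↥(PG n)}
    (h : g * F.e q * g⁻¹ = F.e r) : par b q = par b r := by
  obtain ⟨k, hk, p, hp, rfl⟩ := F.dec_e hg
  rw [show k * F.e p * F.e q * (k * F.e p)⁻¹ = k * (F.e p * F.e q * (F.e p)⁻¹) * k⁻¹ by group,
    ← F.e_conj hp q.2] at h
  have e := (F.K_fix hk (mul_mem (mul_mem hp q.2) (inv_mem hp)) r.2 h).1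
  have e' : (⟨p, hp⟩ : ↥(PG n)) * q * (⟨p, hp⟩ : ↥(PG n))⁻¹ = r := Subtype.ext e
  rw [← e', map_mul, map_mul, map_inv, mul_comm _ (par b q), mul_inv_cancel_right]

end Frame

end Cfsg.Agent.Invol.Kondo
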