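import Cfsg.Agent.Lib.Invol.KondoClasses.Block
import Cfsg.Agent.Lib.Invol.KondoClasses.Linear

/-!
# The model: the centraliser of a fixed-point-free involution on `4n` letters (for S3191)
-/

set_option autoImplicit false

namespace Cfsg.Agent.Invol.Kondo

open Equiv

/-- The letters: (block, pair, side). -/
abbrev X (n : ℕ) := Fin n × B

variable {n : ℕ}

/-- Blockwise permutations. -/
def bm (n : ℕ) : (Fin n → Perm B) →* Perm (X n) where
  toFun g := Equiv.prodCongrRight g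
  map_one' := Equiv.ext fun _ => rfl
  map_mul' _ _ := Equiv.ext fun _ => rfl

theorem mk_apply (g : Fin n → Perm B) (x : X n) : bm n g x = (x.1, g x.1 x.2) := rfl

theorem mk_inj : Function.Injective (bm n) := fun g h e =>
  funext fun i => Equiv.ext fun x => congrArg Prod.snd (congrArg (fun p : Perm (X n) => p (i, x)) e)

/-- A permutation of the blocks. -/
def bp (n : ℕ) : Perm (Fin n) →* Perm (X n) where
  toFun π := Equiv.prodCongr π (Equiv.refl B)
  map_one' := Equiv.ext fun _ => rfl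
  map_mul' _ _ := Equiv.ext fun _ => rfl

theorem bp_apply (π : Perm (Fin n)) (x : X n) : bp n π x = (π x.1, x.2) := rfl

theorem bp_mk (π : Perm (Fin n)) (g : Fin n → Perm B) :
    bp n π * bm n g * (bp n π)⁻¹ = bm n (fun i => g (π⁻¹ i)) := by
  rw [mul_inv_eq_iff_eq_mul]
  ext1 x
  simp [Perm.mul_apply, bp_apply, mk_apply]

/-- The fixed-point-free involution. -/
def beta (n : ℕ) : Perm (X n) := bm n fun _ => flipB

/-- Its centraliser. -/
def PG (n : ℕ) : Subgroup (Perm (X n)) := Subgroup.centralizer {beta n}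

theorem mem_PG {p : Perm (X n)} : p ∈ PG n ↔ p * beta n = beta n * p := Subgroup.mem_centralizer_singleton_iff

theorem mk_mem_PG {g : Fin n → Perm B} : bm n g ∈ PG n ↔ ∀ i, InD (g i) := by
  rw [mem_PG, beta, ← map_mul, ← map_mul]
  exact ⟨fun h i => congrFun (mk_inj h) i, fun h => congrArg _ (funext h)⟩

theorem bp_mem_PG (π : Perm (Fin n)) : bp n π ∈ PG n := by
  rw [mem_PG]; ext1 x; rfl

/-- The block group `D8^n`. -/
def JG (n : ℕ) : Subgroup (Perm (X n)) where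
  carrier := {p | ∃ g, (∀ i, InD (g i)) ∧ bm n g = p}
  one_mem' := ⟨1, fun _ => by simp [InD], map_one _⟩
  mul_mem' := by
    rintro _ _ ⟨g, hg, rfl⟩ ⟨h, hh, rfl⟩
    refine ⟨g * h, fun i => ?_, map_mul _ _ _⟩
    show g i * h i * flipB = flipB * (g i * h i)
    rw [mul_assoc, hh i, ← mul_assoc, hg i, mul_assoc]
  inv_mem' := by
    rintro _ ⟨g, hg, rfl⟩
    exact ⟨g⁻¹, fun i => (Commute.inv_left (hg i)), map_inv _ _⟩

/-- Block permutations times the block group. -/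
def QG (n : ℕ) : Subgroup (Perm (X n)) where
  carrier := {p | ∃ π g, (∀ i, InD (g i)) ∧ bp n π * bm n g = p}
  one_mem' := ⟨1, 1, fun _ => by simp [InD], by simp⟩
  mul_mem' := by
    rintro _ _ ⟨π, g, hg, rfl⟩ ⟨ρ, h, hh, rfl⟩
    refine ⟨π * ρ, fun i => g (ρ i) * h i, fun i => ?_, ?_⟩
    · show g (ρ i) * h i * flipB = flipB * (g (ρ i) * h i)
      rw [mul_assoc, hh i, ← mul_assoc, hg (ρ i), mul_assoc]
    · ext1 x; rfl
  inv_mem' := by
    rintro _ ⟨π, g, hg, rfl⟩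
    refine ⟨π⁻¹, fun i => (g (π⁻¹ i))⁻¹, fun i => (Commute.inv_left (hg _)), ?_⟩
    refine eq_inv_of_mul_eq_one_left (Equiv.ext fun x => ?_)
    simp [Perm.mul_apply, bp_apply, mk_apply]
    exact (bp n π).symm_apply_apply x

theorem JG_le_QG : JG n ≤ QG n := by
  rintro _ ⟨g, hg, rfl⟩; exact ⟨1, g, hg, by simp⟩

theorem QG_le_PG : QG n ≤ PG n := by
  rintro _ ⟨π, g, hg, rfl⟩; exact mul_mem (bp_mem_PG π) (mk_mem_PG.2 hg)

theorem mem_PG_fst {p : Perm (X n)} (hp : p ∈ PG n) (hb : ∀ x, (p x).1 = x.1) : p ∈ JG n := by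
  let g : Fin n → Perm B := fun i =>
    { toFun := fun x => (p (i, x)).2
      invFun := fun x => (p⁻¹ (i, x)).2
      left_inv := fun x => by
        have e : p (i, x) = (i, (p (i, x)).2) := Prod.ext (hb _) rfl
        show (p⁻¹ (i, (p (i, x)).2)).2 = x
        rw [← e]; simp
      right_inv := fun x => by
        have h1 : (p⁻¹ (i, x)).1 = i := by
          have := hb (p⁻¹ (i, x)); simpa using this.symm
        have e : p⁻¹ (i, x) = (i, (p⁻¹ (i, x)).2) := Prod.ext h1 rfl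
        show (p (i, (p⁻¹ (i, x)).2)).2 = x
        rw [← e]; simp }
  have e : bm n g = p := Equiv.ext fun x => Prod.ext (hb x).symm rfl
  exact ⟨g, mk_mem_PG.1 (e ▸ hp), e⟩

theorem mem_QG_fst {p : Perm (X n)} (hp : p ∈ PG n) (hb : ∀ i x y, (p (i, x)).1 = (p (i, y)).1) : p ∈ QG n := by
  let π0 : Fin n → Fin n := fun i => (p (i, (0, 0))).1
  have hπ : ∀ x, (p x).1 = π0 x.1 := fun x => hb x.1 x.2 (0, 0)
  have hsurj : Function.Surjective π0 := fun j => ⟨(p⁻¹ (j, (0, 0))).1, by rw [← hπ]; simp⟩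
  let π : Perm (Fin n) := Equiv.ofBijective π0 (Finite.surjective_iff_bijective.1 hsurj)
  obtain ⟨g, hg, he⟩ := mem_PG_fst (mul_mem (inv_mem (bp_mem_PG π)) hp) (fun x => by
    rw [← map_inv, Perm.mul_apply, bp_apply, hπ]
    exact π.symm_apply_apply x.1)
  exact ⟨π, g, hg, by rw [he, mul_inv_cancel_left]⟩

/-- The elementary abelian group of a choice of four-groups. -/
def emb (χ : Fin n → Bool) (x : V n) : Perm (X n) := bm n fun i => elt (χ i) (x.1 i) (x.2 i)

theorem emb_add (χ : Fin n → Bool) (x y : V n) : emb χ (x + y) = emb χ x * emb χ y := by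
  rw [emb, emb, emb, ← map_mul]
  exact congrArg _ (funext fun i => (elt_mul _ _ _ _ _).symm)

theorem emb_zero (χ : Fin n → Bool) : emb χ 0 = 1 := by
  simp [emb, elt_zero, ← Pi.one_def]

theorem emb_inj (χ : Fin n → Bool) : Function.Injective (emb χ) := fun x y e => by
  have h : ∀ i, x.1 i = y.1 i ∧ x.2 i = y.2 i := fun i => elt_inj _ _ _ _ _ (congrFun (mk_inj e) i)
  exact Prod.ext (funext fun i => (h i).1) (funext fun i => (h i).2)

theorem emb_sq (χ : Fin n → Bool) (x : V n) : emb χ x * emb χ x = 1 := by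
  rw [← emb_add, vadd_self, emb_zero]

theorem emb_inv (χ : Fin n → Bool) (x : V n) : (emb χ x)⁻¹ = emb χ x := inv_eq_of_mul_eq_one_right (emb_sq χ x)

/-- The group of a choice. -/
def AG (χ : Fin n → Bool) : Subgroup (Perm (X n)) where
  carrier := Set.range (emb χ)
  one_mem' := ⟨0, emb_zero χ⟩
  mul_mem' := by rintro _ _ ⟨x, rfl⟩ ⟨y, rfl⟩; exact ⟨x + y, emb_add χ x y⟩
  inv_mem' := by rintro _ ⟨x, rfl⟩; exact ⟨x, (emb_inv χ x).symm⟩

theorem AG_le_JG (χ : Fin n → Bool) : AG χ ≤ JG n := by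
  rintro _ ⟨x, rfl⟩; exact ⟨_, fun i => elt_inD _ _ _, rfl⟩

theorem card_AG (χ : Fin n → Bool) : Nat.card ↥(AG χ) = 4 ^ n := by
  show Nat.card ↑(Set.range (emb χ)) = _
  rw [Nat.card_range_of_injective (emb_inj χ), Nat.card_prod, Nat.card_fun, Nat.card_zmod, Nat.card_fin,
    ← mul_pow]
  norm_num

/-- Elements without `s`-part do not depend on the choice. -/
theorem emb_congr {χ χ' : Fin n → Bool} {x : V n} (h : ∀ i, x.2 i = 1 → χ i = χ' i) : emb χ x = emb χ' x :=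
  congrArg _ (funext fun i => by
    rcases zmod_two_cases (x.2 i) with e | e
    · rw [e, elt_z, elt_z]
    · rw [h i e])

theorem emb_tt (χ : Fin n → Bool) : emb χ tt = beta n :=
  congrArg _ (funext fun i => by simp [tt, elt_z])

/-- Conjugation by a block permutation. -/
theorem bp_emb (π : Perm (Fin n)) (χ : Fin n → Bool) (x : V n) :
    bp n π * emb χ x * (bp n π)⁻¹ = emb (χ ∘ ⇑π⁻¹) (x.1 ∘ ⇑π⁻¹, x.2 ∘ ⇑π⁻¹) := bp_mk π _

/-- Conjugation by the block group shears. -/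
theorem mk_emb {g : Fin n → Perm B} (hg : ∀ i, InD (g i)) (χ : Fin n → Bool) :
    ∃ ε : Fin n → ZMod 2, ∀ x, bm n g * emb χ x * (bm n g)⁻¹ = emb χ (shear ε x) := by
  choose p hp hp0 using fun i q₁ q₂ => conj_elt (g i) (hg i) (χ i) q₁ q₂
  refine ⟨fun i => p i 0 1, fun x => ?_⟩
  rw [emb, emb, ← map_inv, ← map_mul, ← map_mul]
  refine congrArg _ (funext fun i => ?_)
  show g i * elt (χ i) (x.1 i) (x.2 i) * (g i)⁻¹ = _
  have key : ∀ b : Bool, ∀ e P Q : ZMod 2, elt b P Q = elt b P 0 * elt b 0 Q := fun b e P Q => by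
    rw [elt_mul, add_zero, zero_add]
  rw [key (χ i) 0 (x.1 i) (x.2 i), mul_assoc, mul_assoc,
    show g i * (elt (χ i) (x.1 i) 0 * (elt (χ i) 0 (x.2 i) * (g i)⁻¹)) =
      g i * elt (χ i) (x.1 i) 0 * (g i)⁻¹ * (g i * elt (χ i) 0 (x.2 i) * (g i)⁻¹) by group,
    hp, hp, hp0 i _ _ rfl, elt_mul, zero_add, shear_apply]
  congr 1
  show x.1 i + p i 0 (x.2 i) = x.1 i + p i 0 1 * x.2 i
  rcases zmod_two_cases (x.2 i) with e | e
  · rw [e, hp0 i _ _ rfl, mul_zero]
  · rw [e, mul_one]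

/-- Conjugation by `QG`. -/
theorem QG_emb {p : Perm (X n)} (hp : p ∈ QG n) (χ : Fin n → Bool) :
    ∃ (π : Perm (Fin n)) (ε : Fin n → ZMod 2), ∀ x, p * emb χ x * p⁻¹ =
      emb (χ ∘ ⇑π⁻¹) ((shear ε x).1 ∘ ⇑π⁻¹, (shear ε x).2 ∘ ⇑π⁻¹) := by
  obtain ⟨π, g, hg, rfl⟩ := hp
  obtain ⟨ε, hε⟩ := mk_emb hg χ
  refine ⟨π, ε, fun x => ?_⟩
  rw [← bp_emb, ← hε]
  group

/-- The shear element of a block. -/
def wv (χ : Fin n → Bool) (i : Fin n) : Perm (X n) := bm n (Pi.mulSingle i (genB (!(χ i))))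

theorem wv_mem (χ : Fin n → Bool) (i : Fin n) : wv χ i ∈ JG n :=
  ⟨_, fun k => by
    rcases eq_or_ne k i with rfl | h
    · simpa using gen_inD _
    · simp [Pi.mulSingle_eq_of_ne h, InD], rfl⟩

theorem wv_emb (χ : Fin n → Bool) (i : Fin n) (x : V n) :
    wv χ i * emb χ x * (wv χ i)⁻¹ = emb χ (v i x) := by
  rw [wv, emb, emb, ← map_inv, ← map_mul, ← map_mul]
  refine congrArg _ (funext fun k => ?_)
  rcases eq_or_ne k i with rfl | h
  · simp [v, shear_apply, conj_gen]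
  · simp [v, shear_apply, Pi.mulSingle_eq_of_ne h, Pi.single_eq_of_ne h]

end Cfsg.Agent.Invol.Kondo
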