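import Cfsg.Agent.Lib.Invol.KondoClasses.Model

/-!
# Elementary abelian subgroups of rank `2n` lie in the block group (for S3191)
-/

set_option autoImplicit false

namespace Cfsg.Agent.Invol.Kondo

open Equiv

variable {n : ℕ}

/-- Commutative of exponent two. -/
def Elem {G : Type*} [Group G] (A : Subgroup G) : Prop := (∀ a ∈ A, ∀ b ∈ A, a * b = b * a) ∧ ∀ a ∈ A, a * a = 1

theorem AG_elem (χ : Fin n → Bool) : Elem (AG χ) := by
  refine ⟨?_, ?_⟩
  · rintro _ ⟨x, rfl⟩ _ ⟨y, rfl⟩; rw [← emb_add, add_comm, emb_add]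
  · rintro _ ⟨x, rfl⟩; exact emb_sq χ x

/-- Commuting elements of square one of one block lie in a common four-group. -/
theorem common_four (S : Set (Perm B)) (hD : ∀ g ∈ S, InD g) (hs : ∀ g ∈ S, g * g = 1)
    (hc : ∀ g ∈ S, ∀ h ∈ S, g * h = h * g) : ∃ b, ∀ g ∈ S, ∃ p q, g = elt b p q := by
  by_cases hex : ∃ g ∈ S, ∃ b p, g = elt b p 1
  · obtain ⟨g₀, hg₀, b, p, rfl⟩ := hex
    refine ⟨b, fun g hg => ?_⟩
    obtain ⟨b', p', q', rfl⟩ := invol_cases g (hD g hg) (hs g hg)
    rcases zmod_two_cases q' with rfl | rfl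
    · exact ⟨p', 0, by rw [elt_z, elt_z]⟩
    · exact ⟨p', 1, by rw [comm_cases _ _ _ _ (hc _ hg₀ _ hg)]⟩
  · push Not at hex
    refine ⟨true, fun g hg => ?_⟩
    obtain ⟨b', p', q', rfl⟩ := invol_cases g (hD g hg) (hs g hg)
    rcases zmod_two_cases q' with rfl | rfl
    · exact ⟨p', 0, by rw [elt_z, elt_z]⟩
    · exact absurd rfl (hex _ hg b' p')

theorem four_mul_lt : ∀ m : ℕ, 2 ≤ m → 4 * m < 4 ^ m := by
  intro m hm
  induction m, hm using Nat.le_induction with
  | base => norm_num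
  | succ k hk ih => rw [pow_succ]; omega

set_option maxHeartbeats 1000000 in
/-- The rank bound. -/
theorem rank_bound {A : Subgroup (Perm (X n))} (hA : A ≤ QG n) (he : Elem A) :
    Nat.card ↥A ≤ 4 ^ n ∧ (4 ^ n ≤ Nat.card ↥A → A ≤ JG n) := by
  classical
  let blk : Perm (X n) → Fin n → Fin n := fun a i => (a (i, (0, 0))).1
  have hblk : ∀ {a}, a ∈ A → ∀ x, (a x).1 = blk a x.1 := fun {a} ha x => by
    obtain ⟨π, g, -, rfl⟩ := hA ha; rfl
  have hmul : ∀ {a b}, a ∈ A → b ∈ A → ∀ i, blk (a * b) i = blk a (blk b i) := fun {a b} ha hb i => by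
    show (a (b (i, (0, 0)))).1 = _
    rw [hblk ha, hblk hb]
  have hone : ∀ i, blk 1 i = i := fun i => rfl
  let r : Setoid (Fin n) :=
    { r := fun i j => ∃ a ∈ A, blk a i = j
      iseqv := ⟨fun i => ⟨1, one_mem _, hone i⟩,
        fun {i j} ⟨a, ha, e⟩ => ⟨a, ha, by rw [← e, ← hmul ha ha, he.2 a ha, hone]⟩,
        fun {i j k} ⟨a, ha, e⟩ ⟨b, hb, e'⟩ => ⟨b * a, mul_mem hb ha, by rw [hmul hb ha, e, e']⟩⟩ }
  let Ω := Quotient r
  haveI : Fintype Ω := Fintype.ofFinite _
  let rep : Ω → Fin n := fun ω => Quotient.out ω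
  have hrep : ∀ ω, Quotient.mk r (rep ω) = ω := fun ω => Quotient.out_eq ω
  -- the kernel of the action
  set C : Subgroup (Perm (X n)) := A ⊓ JG n with hC
  have hCg : ∀ c : ↥C, ∃ g : Fin n → Perm B, (∀ i, InD (g i)) ∧ bm n g = (c : Perm (X n)) := fun c => c.2.2
  choose g hgD hg using hCg
  have hb : ∀ ω, ∃ b, ∀ c : ↥C, ∃ p q, g c (rep ω) = elt b p q := by
    intro ω
    obtain ⟨b, hb⟩ := common_four (Set.range fun c : ↥C => g c (rep ω)) (by rintro _ ⟨c, rfl⟩; exact hgD c _)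
      (by
        rintro _ ⟨c, rfl⟩
        have e : bm n (g c * g c) = bm n 1 := by rw [map_mul, map_one, hg, he.2 _ c.2.1]
        exact congrFun (mk_inj e) _)
      (by
        rintro _ ⟨c, rfl⟩ _ ⟨d, rfl⟩
        have e : bm n (g c * g d) = bm n (g d * g c) := by rw [map_mul, map_mul, hg, hg, he.1 _ c.2.1 _ d.2.1]
        exact congrFun (mk_inj e) _)
    exact ⟨b, fun c => hb _ ⟨c, rfl⟩⟩
  choose b p q hpq using hb
  have hCcard : Nat.card ↥C ≤ 4 ^ Fintype.card Ω := by
    have hinj : Function.Injective (fun (c : ↥C) (ω : Ω) => (p ω c, q ω c)) := by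
      intro c d e
      refine Subtype.ext ?_
      rw [← hg c, ← hg d]
      refine congrArg _ (funext fun i => ?_)
      obtain ⟨a, ha, hai⟩ := @Quotient.exact (Fin n) r _ _ (hrep (Quotient.mk r i))
      have hr : g c (rep (Quotient.mk r i)) = g d (rep (Quotient.mk r i)) := by
        rw [hpq, hpq]
        have e' : (p (Quotient.mk r i) c, q (Quotient.mk r i) c) = (p (Quotient.mk r i) d, q (Quotient.mk r i) d) :=
          congrFun e (Quotient.mk r i)
        simp only [Prod.mk.injEq] at e'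
        rw [e'.1, e'.2]
      obtain ⟨π, h, -, rfl⟩ := hA ha
      have key : ∀ c : ↥C, h (rep (Quotient.mk r i)) * g c (rep (Quotient.mk r i)) *
          (h (rep (Quotient.mk r i)))⁻¹ = g c i := fun c => by
        rw [mul_inv_eq_iff_eq_mul]
        ext1 x
        have e1 := congrArg (fun t : Perm (X n) => (t (rep (Quotient.mk r i), x)).2)
          (he.1 _ ha _ c.2.1)
        rw [← hg c] at e1
        have hπ : π (rep (Quotient.mk r i)) = i := hai
        simpa [Perm.mul_apply, bp_apply, mk_apply, hπ] using e1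
      rw [← key c, ← key d, hr]
    have := Nat.card_le_card_of_injective _ hinj
    rw [Nat.card_fun, Nat.card_prod, Nat.card_zmod, ← Nat.card_eq_fintype_card] at *
    simpa using this
  -- the action on the representatives
  let T := ∀ ω : Ω, {i : Fin n // Quotient.mk r i = ω}
  let f : ↥A → T := fun a ω => ⟨blk a (rep ω), by
    conv_rhs => rw [← hrep ω]
    exact Quotient.sound (s := r) (r.symm ⟨a, a.2, rfl⟩)⟩
  have hAcard : Nat.card ↥A ≤ Nat.card ↥C * Nat.card T := by
    let sec : T → ↥A := fun t => if h : ∃ a, f a = t then h.choose else 1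
    have hsec : ∀ a, f (sec (f a)) = f a := fun a => by
      have h : ∃ a', f a' = f a := ⟨a, rfl⟩
      simp only [sec, dif_pos h]; exact h.choose_spec
    have hmem : ∀ a, ((sec (f a))⁻¹ * a : ↥A).1 ∈ C := by
      intro a
      set s := sec (f a) with hs
      have h1 : ∀ ω, blk (s : Perm (X n)) (rep ω) = blk (a : Perm (X n)) (rep ω) := fun ω =>
        congrArg Subtype.val (congrFun (hsec a) ω)
      refine ⟨(s⁻¹ * a).2, mem_PG_fst (QG_le_PG (hA (s⁻¹ * a).2)) fun x => ?_⟩
      rw [hblk (s⁻¹ * a).2]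
      obtain ⟨d, hd, hdi⟩ := @Quotient.exact (Fin n) r _ _ (hrep (Quotient.mk r x.1))
      have hfix : blk ((s⁻¹ * a : ↥A) : Perm (X n)) (rep (Quotient.mk r x.1)) = rep (Quotient.mk r x.1) := by
        rw [Subgroup.coe_mul, hmul (s⁻¹).2 a.2, ← h1, ← hmul (s⁻¹).2 s.2, ← Subgroup.coe_mul,
          inv_mul_cancel, Subgroup.coe_one, hone]
      rw [← hdi, ← hmul (s⁻¹ * a).2 hd, he.1 _ (s⁻¹ * a).2 _ hd, hmul hd (s⁻¹ * a).2, hfix]
    rw [← Nat.card_prod]
    refine Nat.card_le_card_of_injective (fun a => ((⟨_, hmem a⟩ : ↥C), f a)) fun a a' e => ?_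
    obtain ⟨e1, e2⟩ := Prod.ext_iff.1 e
    have e3 : ((sec (f a))⁻¹ * a : ↥A) = (sec (f a'))⁻¹ * a' := Subtype.ext (congrArg Subtype.val e1 :)
    simp only at e2
    rw [e2] at e3
    exact mul_left_cancel e3
  have hT : Nat.card T = ∏ ω : Ω, Fintype.card {i : Fin n // Quotient.mk r i = ω} := by
    rw [Nat.card_pi]; simp [Nat.card_eq_fintype_card]
  have hsum : n = ∑ ω : Ω, Fintype.card {i : Fin n // Quotient.mk r i = ω} := by
    rw [← Fintype.card_sigma, Fintype.card_congr (Equiv.sigmaFiberEquiv (Quotient.mk r)), Fintype.card_fin]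
  set m := fun ω : Ω => Fintype.card {i : Fin n // Quotient.mk r i = ω} with hm
  have hm1 : ∀ ω, 1 ≤ m ω := fun ω => Fintype.card_pos_iff.2 ⟨⟨rep ω, hrep ω⟩⟩
  have hm4 : ∀ ω, 4 * m ω ≤ 4 ^ m ω := fun ω => by
    rcases eq_or_lt_of_le (hm1 ω) with e | e
    · simp [← e]
    · exact (four_mul_lt _ e).le
  have hle : Nat.card ↥A ≤ ∏ ω, 4 * m ω := by
    rw [Finset.prod_mul_distrib, Finset.prod_const, Finset.card_univ, ← hT]
    exact hAcard.trans (Nat.mul_le_mul_right _ hCcard)
  have h4n : (4 : ℕ) ^ n = ∏ ω, 4 ^ m ω := by rw [Finset.prod_pow_eq_pow_sum, ← hsum]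
  refine ⟨hle.trans (h4n ▸ Finset.prod_le_prod' fun ω _ => hm4 ω), fun hge a ha => ?_⟩
  refine mem_PG_fst (QG_le_PG (hA ha)) fun x => ?_
  by_contra hne
  rw [hblk ha] at hne
  have h2 : 1 < m (Quotient.mk r x.1) := Fintype.one_lt_card_iff.2
    ⟨⟨x.1, rfl⟩, ⟨blk a x.1, Quotient.sound (s := r) (r.symm ⟨a, ha, rfl⟩)⟩,
      fun e => hne (congrArg Subtype.val e).symm⟩
  have hlt : ∏ ω, 4 * m ω < ∏ ω, 4 ^ m ω := Finset.prod_lt_prod (fun ω _ => by have := hm1 ω; omega)
    (fun ω _ => hm4 ω) ⟨_, Finset.mem_univ _, four_mul_lt _ h2⟩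
  omega

/-- The central element with coordinates `w`. -/
def zel (w : Fin n → ZMod 2) : Perm (X n) := bm n fun i => if w i = 1 then flipB else 1

theorem emb_zel (χ : Fin n → Bool) (w : Fin n → ZMod 2) : emb χ (w, 0) = zel w :=
  congrArg _ (funext fun i => elt_z _ _)

theorem zel_central {w : Fin n → ZMod 2} {p : Perm (X n)} (hp : p ∈ JG n) : p * zel w = zel w * p := by
  obtain ⟨g, hg, rfl⟩ := hp
  rw [zel, ← map_mul, ← map_mul]
  refine congrArg _ (funext fun i => ?_)
  show g i * (if w i = 1 then flipB else 1) = (if w i = 1 then flipB else 1) * g i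
  split_ifs
  · exact hg i
  · simp

theorem commutator_zel {p q : Perm (X n)} (hp : p ∈ JG n) (hq : q ∈ JG n) :
    ∃ w, p * q * p⁻¹ * q⁻¹ = zel w := by
  obtain ⟨g, hg, rfl⟩ := hp
  obtain ⟨h, hh, rfl⟩ := hq
  refine ⟨fun i => if g i * h i * (g i)⁻¹ * (h i)⁻¹ = 1 then 0 else 1, ?_⟩
  rw [zel, ← map_inv, ← map_inv, ← map_mul, ← map_mul, ← map_mul]
  refine congrArg _ (funext fun i => ?_)
  show g i * h i * (g i)⁻¹ * (h i)⁻¹ = _
  rcases comm_central _ (hg i) _ (hh i) with e | e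
  · simp [e]
  · simp [e, flipB_ne_one]

/-- An elementary abelian group of rank `2n` in the block group is normal in it. -/
theorem JG_normalises {A : Subgroup (Perm (X n))} (hA : A ≤ JG n) (he : Elem A)
    (hc : 4 ^ n ≤ Nat.card ↥A) : ∀ p ∈ JG n, ∀ a ∈ A, p * a * p⁻¹ ∈ A := by
  classical
  have hz : ∀ w, zel w ∈ A := by
    intro w
    let Zs := A ⊔ Subgroup.zpowers (zel w)
    have hzw : zel w ∈ JG n := by
      rw [← emb_zel (fun _ => true) w]; exact AG_le_JG _ ⟨_, rfl⟩
    have hle : Zs ≤ JG n := sup_le hA (Subgroup.zpowers_le.2 hzw)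
    have hz2 : zel w * zel w = 1 := by rw [← emb_zel (fun _ => true) w, emb_sq]
    have hgen : Zs = Subgroup.closure ((A : Set (Perm (X n))) ∪ {zel w}) := by
      rw [Subgroup.closure_union, Subgroup.closure_eq, ← Subgroup.zpowers_eq_closure]
    have hcomm : ∀ a ∈ (A : Set (Perm (X n))) ∪ {zel w}, ∀ b ∈ (A : Set (Perm (X n))) ∪ {zel w},
        a * b = b * a := by
      rintro a (ha | rfl) b (hb | rfl)
      · exact he.1 a ha b hb
      · exact zel_central (hA ha)
      · exact (zel_central (hA hb)).symm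
      · rfl
    have he' : Elem Zs := by
      rw [hgen]
      haveI := Subgroup.isMulCommutative_closure hcomm
      refine ⟨fun a ha b hb => setLike_mul_comm ha hb, fun a ha => ?_⟩
      induction ha using Subgroup.closure_induction with
      | mem y hy =>
        rcases hy with hy | rfl
        · exact he.2 y hy
        · exact hz2
      | one => exact one_mul 1
      | mul y z hy hz iy iz =>
        have hyz : Commute y z := setLike_mul_comm hy hz
        calc y * z * (y * z) = (y * y) * (z * z) := hyz.symm.mul_mul_mul_comm y z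
          _ = 1 := by rw [iy, iz, one_mul]
      | inv y _ iy => rw [← mul_inv_rev, iy, inv_one]
    have h1 := (rank_bound (hle.trans JG_le_QG) he').1
    have h2 : A = Zs := Subgroup.eq_of_le_of_card_ge le_sup_left (h1.trans hc)
    rw [h2]; exact le_sup_right (a := A) (Subgroup.mem_zpowers _)
  intro p hp a ha
  obtain ⟨w, hw⟩ := commutator_zel hp (hA ha)
  rw [mul_inv_eq_iff_eq_mul] at hw
  rw [hw]; exact mul_mem (hz w) ha

end Cfsg.Agent.Invol.Kondo
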